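import Groth.Agent.TopFinType.Flatness

/-! Torsion in completed chart algebras. -/

set_option autoImplicit false

universe u

open AdicRing TensorProduct

namespace Groth.TopFinType

variable {R : Type u} [CommRing R] {I : Ideal R} {A : Type u} [CommRing A] [Algebra R A]
  {ι : Type} (f : ι → A) (i : ι)

theorem exists_pow_mul_chartAlg (q : chartAlg f i) :
    ∃ N a, algebraMap A (chartAlg f i) (f i) ^ N * q = algebraMap A (chartAlg f i) a := by
  obtain ⟨p, rfl⟩ := Ideal.Quotient.mk_surjective q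
  induction p using MvPolynomial.induction_on with
  | C a => exact ⟨0, a, by rw [pow_zero, one_mul]; rfl⟩
  | add p q hp hq =>
    obtain ⟨N, a, ha⟩ := hp
    obtain ⟨M, b, hb⟩ := hq
    refine ⟨N + M, f i ^ M * a + f i ^ N * b, ?_⟩
    rw [map_add, map_add, map_mul, map_mul, map_pow, map_pow, ← ha, ← hb]
    ring
  | mul_X p j hp =>
    obtain ⟨N, a, ha⟩ := hp
    refine ⟨N + 1, a * f j.1, ?_⟩
    have hj : algebraMap A (chartAlg f i) (f i) * Ideal.Quotient.mk _ (MvPolynomial.X j) =
        algebraMap A (chartAlg f i) (f j.1) :=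
      Ideal.Quotient.eq.2 (Ideal.subset_span ⟨j, rfl⟩)
    rw [map_mul, map_mul, ← ha, ← hj]
    ring

theorem exists_pow_mul_eq_zero {a : A} (h : algebraMap A (chartAlg f i) a = 0) : ∃ N, f i ^ N * a = 0 := by
  let σ : MvPolynomial {j // j ≠ i} A →ₐ[A] Localization.Away (f i) :=
    MvPolynomial.aeval fun j => algebraMap A _ (f j.1) * IsLocalization.Away.invSelf (f i)
  let σ' : chartAlg f i →+* Localization.Away (f i) := Ideal.Quotient.lift _ σ.toRingHom fun x hx => by
    refine (Ideal.span_le (I := RingHom.ker σ.toRingHom)).2 ?_ hx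
    rintro _ ⟨j, rfl⟩
    show σ _ = 0
    simp only [σ, map_sub, map_mul, MvPolynomial.aeval_C, MvPolynomial.aeval_X]
    rw [mul_left_comm, IsLocalization.Away.mul_invSelf, mul_one, sub_self]
  have h1 := congrArg σ' h
  rw [map_zero] at h1
  have h2 : algebraMap A (Localization.Away (f i)) a = 0 := by
    rw [← h1]
    show _ = σ (MvPolynomial.C a)
    exact (MvPolynomial.aeval_C _ a).symm
  obtain ⟨⟨_, N, rfl⟩, hN⟩ := (IsLocalization.map_eq_zero_iff (Submonoid.powers (f i)) _ a).1 h2
  exact ⟨N, hN⟩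

theorem exists_pow_mul_eq_zero_of_torsion (hI : I.FG) (hA : NoPowTorsion I A) {n : ℕ} {q : chartAlg f i}
    (hq : ∀ b ∈ I ^ n, b • q = 0) : ∃ N, algebraMap A (chartAlg f i) (f i) ^ N * q = 0 := by
  classical
  obtain ⟨N, a, ha⟩ := exists_pow_mul_chartAlg f i q
  obtain ⟨s, hs⟩ := Submodule.FG.pow hI n
  have hM : ∀ b : s, ∃ M, f i ^ M * ((b : R) • a) = 0 := fun b => exists_pow_mul_eq_zero f i (by
    rw [Algebra.smul_def, map_mul, ← IsScalarTower.algebraMap_apply, ← ha, mul_left_comm, ← Algebra.smul_def,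
      hq _ (hs ▸ Submodule.subset_span b.2), mul_zero])
  choose M hM using hM
  let M₀ := Finset.univ.sup M
  have h0 : f i ^ M₀ * a = 0 := hA _ n fun b hb => by
    rw [← hs] at hb
    induction hb using Submodule.span_induction with
    | mem b hb =>
      obtain ⟨d, hd⟩ := Nat.exists_eq_add_of_le (Finset.le_sup (f := M) (Finset.mem_univ (⟨b, hb⟩ : s)))
      rw [← mul_smul_comm, show M₀ = M ⟨b, hb⟩ + d from hd, add_comm, pow_add, mul_assoc, hM ⟨b, hb⟩, mul_zero]
    | zero => exact zero_smul _ _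
    | add b c _ _ hb hc => rw [add_smul, hb, hc, add_zero]
    | smul r b _ hb => rw [smul_assoc, hb, smul_zero]
  refine ⟨M₀ + N, ?_⟩
  rw [pow_add, mul_assoc, ha, ← map_pow, ← map_mul, h0, map_zero]

theorem exists_pow_mul_of_flat {Q : Type u} [CommRing Q] {D : Type u} [CommRing D] [Algebra Q D] [Module.Flat Q D]
    {s : ℕ} (b : Fin s → Q) (π : Q) (h : ∀ q : Q, (∀ l, b l * q = 0) → ∃ N, π ^ N * q = 0)
    (x : D) (hx : ∀ l, b l • x = 0) : ∃ N, algebraMap Q D π ^ N * x = 0 := by
  let μ : Q →ₗ[Q] Fin s → Q := LinearMap.pi fun l => b l • LinearMap.id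
  have hzero : μ.lTensor D (x ⊗ₜ 1) = 0 := by
    apply (TensorProduct.piRight Q Q D (fun _ : Fin s => Q)).injective
    rw [map_zero]
    ext l
    rw [LinearMap.lTensor_tmul, TensorProduct.piRight_apply, TensorProduct.piRightHom_tmul]
    show x ⊗ₜ[Q] (b l • (1 : Q)) = 0
    rw [TensorProduct.tmul_smul, TensorProduct.smul_tmul', hx, TensorProduct.zero_tmul]
  obtain ⟨w, hw⟩ := (Module.Flat.lTensor_exact D (LinearMap.exact_subtype_ker_map μ) _).1 hzero
  have key : ∀ w : D ⊗[Q] LinearMap.ker μ, ∃ N : ℕ, π ^ N • (LinearMap.ker μ).subtype.lTensor D w = 0 := by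
    intro w
    induction w using TensorProduct.induction_on with
    | zero => exact ⟨0, by simp⟩
    | add u v hu hv =>
      obtain ⟨N, hN⟩ := hu
      obtain ⟨M, hM⟩ := hv
      refine ⟨N + M, ?_⟩
      rw [map_add, smul_add, pow_add, mul_smul, mul_smul, hM, smul_zero, add_zero, smul_comm, hN, smul_zero]
    | tmul c q =>
      obtain ⟨N, hN⟩ := h q.1 fun l => congrFun (LinearMap.mem_ker.1 q.2) l
      refine ⟨N, ?_⟩
      rw [LinearMap.lTensor_tmul, ← TensorProduct.tmul_smul, smul_eq_mul, Submodule.subtype_apply, hN,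
        TensorProduct.tmul_zero]
  obtain ⟨N, hN⟩ := key w
  refine ⟨N, ?_⟩
  rw [hw] at hN
  have := congrArg (TensorProduct.rid Q D) hN
  rw [map_smul, map_zero, TensorProduct.rid_tmul, one_smul, Algebra.smul_def, map_pow] at this
  exact this

/-- `I`-torsion and `f i`-torsion of a completed chart algebra coincide -/
theorem torsion_chartCompl {r : ℕ} (g : Fin (r + 1) → A) (hR : IsBase R I) (hA : Admissible R I A) (k : ℕ)
    (hopen : (I ^ k).map (algebraMap R A) ≤ Ideal.span (Set.range g)) (i : Fin (r + 1))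
    (x : chartCompl I g i) :
    (∃ n : ℕ, ∀ a ∈ I ^ n, a • x = 0) ↔
      ∃ n : ℕ, algebraMap A (chartCompl I g i) (g i) ^ n * x = 0 := by
  classical
  refine ⟨fun ⟨n, hn⟩ => ?_, fun ⟨n, hn⟩ => ⟨k * n, fun a ha => ?_⟩⟩
  · haveI : Algebra.FiniteType A (MvPolynomial {j : Fin (r + 1) // j ≠ i} A) := inferInstance
    haveI : Algebra.FiniteType A (chartAlg g i) :=
      Algebra.FiniteType.of_surjective (Ideal.Quotient.mkₐ A _) Ideal.Quotient.mk_surjective
    haveI : Module.Flat (chartAlg g i) (chartCompl I g i) :=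
      flat_completion_map hR (topFiniteType_of_topFinitePresentation hA.1) _
    obtain ⟨s, b, hb⟩ := Submodule.fg_iff_exists_fin_generating_family.1 (Submodule.FG.pow (fg_of_isBase hR) n)
    obtain ⟨N, hN⟩ := exists_pow_mul_of_flat (D := chartCompl I g i)
      (fun l => algebraMap R (chartAlg g i) (b l)) (algebraMap A (chartAlg g i) (g i))
      (fun q hq => exists_pow_mul_eq_zero_of_torsion g i (fg_of_isBase hR) hA.2 (n := n) (q := q) fun a ha => by
        rw [← hb] at ha
        induction ha using Submodule.span_induction with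
        | mem a ha =>
          obtain ⟨l, rfl⟩ := ha
          exact (Algebra.smul_def (b l) q).trans (hq l)
        | zero => exact zero_smul _ _
        | add b c _ _ hb hc => rw [add_smul, hb, hc, add_zero]
        | smul r b _ hb => rw [smul_assoc, hb, smul_zero])
      x fun l => by rw [algebraMap_smul]; exact hn _ (hb ▸ Submodule.subset_span ⟨l, rfl⟩)
    exact ⟨N, by rwa [← IsScalarTower.algebraMap_apply] at hN⟩
  · have hgen : (Ideal.span (Set.range g)).map (algebraMap A (chartAlg g i)) ≤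
        Ideal.span {algebraMap A (chartAlg g i) (g i)} := by
      rw [Ideal.map_span, Ideal.span_le]
      rintro _ ⟨_, ⟨j, rfl⟩, rfl⟩
      rw [SetLike.mem_coe, Ideal.mem_span_singleton]
      by_cases hj : j = i
      · rw [hj]
      · let X' : chartAlg g i := Ideal.Quotient.mk _ (MvPolynomial.X ⟨j, hj⟩)
        have hrel : algebraMap A (chartAlg g i) (g i) * X' = algebraMap A (chartAlg g i) (g j) :=
          Ideal.Quotient.eq.2 (Ideal.subset_span ⟨⟨j, hj⟩, rfl⟩)
        exact ⟨X', hrel.symm⟩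
    have hmem : algebraMap R (chartAlg g i) a ∈ Ideal.span {algebraMap A (chartAlg g i) (g i) ^ n} := by
      rw [← Ideal.span_singleton_pow]
      refine Ideal.pow_right_mono hgen n ?_
      rw [← Ideal.map_pow, IsScalarTower.algebraMap_apply R A]
      refine Ideal.mem_map_of_mem _ (Ideal.pow_right_mono hopen n ?_)
      rw [← Ideal.map_pow, ← pow_mul]
      exact Ideal.mem_map_of_mem _ ha
    obtain ⟨q, hq⟩ := Ideal.mem_span_singleton'.1 hmem
    rw [Algebra.smul_def, IsScalarTower.algebraMap_apply R (chartAlg g i) (chartCompl I g i), ← hq, map_mul,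
      map_pow, ← IsScalarTower.algebraMap_apply, mul_assoc, hn, mul_zero]

end Groth.TopFinType
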