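import Groth.Agent.TopFinType.Trunc
import Groth.Agent.TopFinType.Chart
import Mathlib.RingTheory.RingHom.FinitePresentation
import Mathlib.RingTheory.RingHom.FiniteType
import Mathlib.RingTheory.Flat.FaithfullyFlat.Algebra
import Mathlib.RingTheory.Localization.Ideal

/-! Topological finiteness is local for complete localizations. -/

set_option autoImplicit false

universe u

open AdicRing

namespace Groth.TopFinType

variable {R : Type u} [CommRing R] {I : Ideal R}

/-- the reduction of an algebra along an ideal of the base -/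
noncomputable def redMap (J : Ideal R) (C : Type u) [CommRing C] [Algebra R C] :
    R ⧸ J →+* C ⧸ J.map (algebraMap R C) :=
  Ideal.quotientMap (J.map (algebraMap R C)) (algebraMap R C) Ideal.le_comap_map

variable {P : ∀ {R S : Type u} [CommRing R] [CommRing S], (R →+* S) → Prop}

/-- truncations of a completion -/
theorem redMap_completion_iff (hP : RingHom.RespectsIso P) (hI : I.FG) (k : ℕ) (C : Type u) [CommRing C]
    [Algebra R C] : P (redMap (I ^ k) (AdicCompletion (I.map (algebraMap R C)) C)) ↔ P (redMap (I ^ k) C) := by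
  let Ch := AdicCompletion (I.map (algebraMap R C)) C
  let g : Ch →+* C ⧸ (I ^ k).map (algebraMap R C) :=
    (Ideal.quotEquivOfEq (Ideal.map_pow _ _ _).symm).toRingHom.comp
      (AdicCompletion.evalₐ (I.map (algebraMap R C)) k).toRingHom
  have hker : RingHom.ker g = (I ^ k).map (algebraMap R Ch) := by
    rw [RingHom.ker_equiv_comp, Groth.AdicLinTop.CompletionQuot.ker_evalₐ _ (hI.map _), Ideal.map_map,
      Ideal.map_pow]
    rfl
  have hg : ∀ c, g (algebraMap C Ch c) = Ideal.Quotient.mk _ c := fun c => by
    show Ideal.quotEquivOfEq (Ideal.map_pow (algebraMap R C) I k).symm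
      (AdicCompletion.evalₐ (I.map (algebraMap R C)) k (algebraMap C (AdicCompletion (I.map (algebraMap R C)) C) c)) = _
    rw [Groth.AdicLinTop.CompletionQuot.evalₐ_algebraMap, Ideal.quotEquivOfEq_mk]
  have hgs : Function.Surjective g := by
    intro y
    obtain ⟨c, rfl⟩ := Ideal.Quotient.mk_surjective y
    exact ⟨algebraMap C Ch c, hg c⟩
  let e : (Ch ⧸ (I ^ k).map (algebraMap R Ch)) ≃+* C ⧸ (I ^ k).map (algebraMap R C) :=
    (Ideal.quotEquivOfEq hker.symm).trans (RingHom.quotientKerEquivOfSurjective hgs)
  have he : e.toRingHom.comp (redMap (I ^ k) Ch) = redMap (I ^ k) C := Ideal.Quotient.ringHom_ext (RingHom.ext fun r => by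
    show g (algebraMap R Ch r) = Ideal.Quotient.mk _ (algebraMap R C r)
    rw [IsScalarTower.algebraMap_apply R C Ch, hg])
  constructor
  · intro h
    rw [← he]
    exact hP.1 _ e h
  · intro h
    have h1 := hP.1 _ e.symm h
    rwa [← he, ← RingHom.comp_assoc, show e.symm.toRingHom.comp e.toRingHom = RingHom.id _ from
      RingHom.ext e.symm_apply_apply, RingHom.id_comp] at h1

variable {A : Type u} [CommRing A] [Algebra R A]

/-- truncations of a localization -/
theorem redMap_away (hP : RingHom.RespectsIso P) (J : Ideal R) (f : A) :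
    P ((algebraMap (A ⧸ J.map (algebraMap R A))
        (Localization.Away (Ideal.Quotient.mk (J.map (algebraMap R A)) f))).comp (redMap J A)) ↔
      P (redMap J (Localization.Away f)) := by
  let C := Localization.Away f
  let q := J.map (algebraMap R A)
  have hqC : q.map (algebraMap A C) = J.map (algebraMap R C) := by
    rw [Ideal.map_map, ← IsScalarTower.algebraMap_eq]
  haveI : IsLocalization.Away (Ideal.Quotient.mk q f) (C ⧸ q.map (algebraMap A C)) := by
    have h : IsLocalization (Algebra.algebraMapSubmonoid (A ⧸ q) (Submonoid.powers f)) (C ⧸ q.map (algebraMap A C)) :=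
      inferInstance
    rwa [Algebra.algebraMapSubmonoid, Submonoid.map_powers] at h
  let e : Localization.Away (Ideal.Quotient.mk q f) ≃+* C ⧸ J.map (algebraMap R C) :=
    (IsLocalization.algEquiv (Submonoid.powers (Ideal.Quotient.mk q f)) _ (C ⧸ q.map (algebraMap A C))).toRingEquiv.trans
      (Ideal.quotEquivOfEq hqC)
  have he : e.toRingHom.comp ((algebraMap (A ⧸ q) _).comp (redMap J A)) = redMap J C :=
    Ideal.Quotient.ringHom_ext (RingHom.ext fun r => by
      show Ideal.quotEquivOfEq hqC ((IsLocalization.algEquiv (Submonoid.powers (Ideal.Quotient.mk q f))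
        (Localization.Away (Ideal.Quotient.mk q f)) (C ⧸ q.map (algebraMap A C)))
          (algebraMap (A ⧸ q) _ (Ideal.Quotient.mk q (algebraMap R A r)))) = Ideal.Quotient.mk _ (algebraMap R C r)
      rw [AlgEquiv.commutes, show algebraMap (A ⧸ q) (C ⧸ q.map (algebraMap A C)) (Ideal.Quotient.mk q (algebraMap R A r)) =
        Ideal.Quotient.mk _ (algebraMap A C (algebraMap R A r)) from rfl, Ideal.quotEquivOfEq_mk,
        ← IsScalarTower.algebraMap_apply])
  constructor
  · intro h
    rw [← he]
    exact hP.1 _ e h
  · intro h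
    have h1 := hP.1 _ e.symm h
    rwa [← he, ← RingHom.comp_assoc, show e.symm.toRingHom.comp e.toRingHom = RingHom.id _ from
      RingHom.ext e.symm_apply_apply, RingHom.id_comp] at h1

theorem redMap_cLoc_iff (hP : RingHom.RespectsIso P) (hI : I.FG) (k : ℕ) (f : A) :
    P (redMap (I ^ k) (CLoc I f)) ↔
      P ((algebraMap (A ⧸ (I ^ k).map (algebraMap R A))
        (Localization.Away (Ideal.Quotient.mk ((I ^ k).map (algebraMap R A)) f))).comp (redMap (I ^ k) A)) :=
  (redMap_completion_iff hP hI k _).trans (redMap_away hP _ f).symm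

theorem redMap_of_cover (hP : RingHom.RespectsIso P) (hL : RingHom.OfLocalizationSpanTarget P) (hI : I.FG) (k : ℕ)
    {r : ℕ} (f : Fin r → A) (hf : Ideal.span (Set.range f) = ⊤) (h : ∀ i, P (redMap (I ^ k) (CLoc I (f i)))) :
    P (redMap (I ^ k) A) := by
  refine hL _ (Set.range fun i => Ideal.Quotient.mk ((I ^ k).map (algebraMap R A)) (f i)) ?_ fun y => ?_
  · rw [show (fun i => Ideal.Quotient.mk ((I ^ k).map (algebraMap R A)) (f i)) = Ideal.Quotient.mk _ ∘ f from rfl,
      Set.range_comp, ← Ideal.map_span, hf, Ideal.map_top]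
  · obtain ⟨y, i, rfl⟩ := y
    exact (redMap_cLoc_iff hP hI k (f i)).1 (h i)

theorem redMap_cLoc (hP : RingHom.RespectsIso P) (hA : RingHom.HoldsForLocalizationAway P)
    (hS : RingHom.StableUnderComposition P) (hI : I.FG) (k : ℕ) (f : A) (h : P (redMap (I ^ k) A)) :
    P (redMap (I ^ k) (CLoc I f)) :=
  (redMap_cLoc_iff hP hI k f).2 (hS _ _ h
    (hA (Localization.Away (Ideal.Quotient.mk ((I ^ k).map (algebraMap R A)) f))
      (Ideal.Quotient.mk ((I ^ k).map (algebraMap R A)) f)))

theorem cLoc_complete (hI : I.FG) (f : A) : IsAdicComplete (I.map (algebraMap R (CLoc I f))) (CLoc I f) := by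
  rw [show algebraMap R (CLoc I f) = (algebraMap (Localization.Away f) (CLoc I f)).comp
    (algebraMap R (Localization.Away f)) from IsScalarTower.algebraMap_eq _ _ _, ← Ideal.map_map]
  exact Groth.AdicLinTop.CompletionQuot.isAdicComplete_map _ (hI.map _)

theorem redMap_finiteType_iff {J : Ideal R} (hJ : J = I) (C : Type u) [CommRing C] [Algebra R C] :
    (redMap J C).FiniteType ↔ (redMap I C).FiniteType := by subst hJ; rfl

theorem topFiniteType_iff_redMap (hI : I.FG) [IsAdicComplete (I.map (algebraMap R A)) A] :
    TopFiniteType R I A ↔ (redMap (I ^ 1) A).FiniteType := by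
  rw [redMap_finiteType_iff (pow_one I)]
  refine ⟨fun h => ?_, fun h => Groth.Agent.S2293.result R I hI A h⟩
  haveI := finiteType_quotient hI h
  letI : Algebra (R ⧸ I) (A ⧸ I.map (algebraMap R A)) := (redMap I A).toAlgebra
  haveI : IsScalarTower R (R ⧸ I) (A ⧸ I.map (algebraMap R A)) := IsScalarTower.of_algebraMap_eq fun r => rfl
  exact Algebra.FiniteType.of_restrictScalars_finiteType R _ _

theorem topFiniteType_cLoc_iff (hR : IsBase R I) [IsAdicComplete (I.map (algebraMap R A)) A] {r : ℕ} (f : Fin r → A)
    (hf : Ideal.span (Set.range f) = ⊤) : TopFiniteType R I A ↔ ∀ i, TopFiniteType R I (CLoc I (f i)) := by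
  have hI := fg_of_isBase hR
  haveI := fun i => cLoc_complete hI (f i)
  rw [topFiniteType_iff_redMap hI]
  simp only [topFiniteType_iff_redMap (A := CLoc I (f _)) hI]
  exact ⟨fun h i => redMap_cLoc RingHom.finiteType_respectsIso RingHom.finiteType_holdsForLocalizationAway
    RingHom.finiteType_stableUnderComposition hI 1 (f i) h,
    redMap_of_cover RingHom.finiteType_respectsIso RingHom.finiteType_ofLocalizationSpanTarget hI 1 f hf⟩

theorem topFinitePresentation_cLoc_iff (hR : IsBase R I) [IsAdicComplete (I.map (algebraMap R A)) A] {r : ℕ}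
    (f : Fin r → A) (hf : Ideal.span (Set.range f) = ⊤) :
    TopFinitePresentation R I A ↔ ∀ i, TopFinitePresentation R I (CLoc I (f i)) := by
  have hI := fg_of_isBase hR
  haveI := fun i => cLoc_complete hI (f i)
  refine ⟨fun h i => topFinitePresentation_of_trunc hR fun k =>
    redMap_cLoc RingHom.finitePresentation_respectsIso RingHom.finitePresentation_holdsForLocalizationAway
      RingHom.finitePresentation_stableUnderComposition hI (k + 1) (f i) (trunc_finitePresentation hI h (k + 1)),
    fun h => topFinitePresentation_of_trunc hR fun k =>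
      redMap_of_cover RingHom.finitePresentation_respectsIso RingHom.finitePresentation_ofLocalizationSpanTarget hI
        (k + 1) f hf fun i => trunc_finitePresentation hI (h i) (k + 1)⟩

theorem admissible_cLoc_iff (hR : IsBase R I) [IsAdicComplete (I.map (algebraMap R A)) A] {r : ℕ}
    (f : Fin r → A) (hf : Ideal.span (Set.range f) = ⊤) :
    Admissible R I A ↔ ∀ i, Admissible R I (CLoc I (f i)) := by
  refine ⟨fun h i => ⟨(topFinitePresentation_cLoc_iff hR f hf).1 h.1 i, fun x k hx => ?_⟩, fun h => ?_⟩
  · haveI := flat_cLoc hR (topFiniteType_of_topFinitePresentation h.1) (f i)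
    obtain ⟨s, b, hb⟩ := Submodule.fg_iff_exists_fin_generating_family.1 (Submodule.FG.pow (fg_of_isBase hR) k)
    obtain ⟨N, hN⟩ := exists_pow_mul_of_flat (D := CLoc I (f i)) (fun l => algebraMap R A (b l)) 1
      (fun q hq => ⟨0, by
        rw [h.2 q k fun a ha => ?_, mul_zero]
        rw [← hb] at ha
        induction ha using Submodule.span_induction with
        | mem a ha =>
          obtain ⟨l, rfl⟩ := ha
          exact (Algebra.smul_def (b l) q).trans (hq l)
        | zero => exact zero_smul _ _
        | add b c _ _ hb hc => rw [add_smul, hb, hc, add_zero]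
        | smul r b _ hb => rw [smul_assoc, hb, smul_zero]⟩)
      x fun l => by rw [algebraMap_smul]; exact hx _ (hb ▸ Submodule.subset_span ⟨l, rfl⟩)
    simpa using hN
  · have hA := (topFinitePresentation_cLoc_iff hR f hf).2 fun i => (h i).1
    refine ⟨hA, fun x k hx => ?_⟩
    haveI := faithfullyFlat_cLoc hR (topFiniteType_of_topFinitePresentation hA) f hf
    apply FaithfulSMul.algebraMap_injective A (∀ i, CLoc I (f i))
    rw [map_zero]
    funext i
    refine (h i).2 _ k fun a ha => ?_
    rw [Pi.algebraMap_apply, Algebra.smul_def, IsScalarTower.algebraMap_apply R A (CLoc I (f i)), ← map_mul,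
      ← Algebra.smul_def, hx a ha, map_zero]

end Groth.TopFinType
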