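import Mathlib.RingTheory.AdicCompletion.AsTensorProduct
import Mathlib.RingTheory.Flat.Tensor

/-!
Consequences of an Artin–Rees property with finitely generated bounds.
-/

set_option autoImplicit false

universe u v

open TensorProduct

namespace Groth.TopFinType

variable {B : Type u} [CommRing B] (J : Ideal B)

/-- Artin–Rees with a finitely generated bound -/
def HasAR {M : Type v} [AddCommGroup M] [Module B M] (N : Submodule B M) : Prop :=
  ∃ N₀ ≤ N, N₀.FG ∧ ∃ n₀, ∀ k, J ^ (k + n₀) • (⊤ : Submodule B M) ⊓ N ≤ J ^ k • N₀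

theorem mem_range_of_map_eq_zero {F : Type u} [AddCommGroup F] [Module B F] {M : Type v} [AddCommGroup M]
    [Module B M] (p : F →ₗ[B] M) (hp : Function.Surjective p) (hN : HasAR J (LinearMap.ker p))
    (y : AdicCompletion J F) (hy : AdicCompletion.map J p y = 0) :
    ∃ N₁ ≤ LinearMap.ker p, N₁.FG ∧ y ∈ LinearMap.range (AdicCompletion.map J N₁.subtype) := by
  obtain ⟨N₀, hN₀, hfg, n₀, hn₀⟩ := hN
  obtain ⟨a, rfl⟩ := AdicCompletion.mk_surjective J F y
  have hmem : ∀ k, p (a k) ∈ (J ^ k • ⊤ : Submodule B M) := fun k => by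
    have := congrArg (fun z => z.val k) hy
    simpa using this
  have hν : ∀ k, ∃ ν ∈ LinearMap.ker p, a k - ν ∈ (J ^ k • ⊤ : Submodule B F) := fun k => by
    have h := hmem k
    rw [← LinearMap.range_eq_top.2 hp, ← Submodule.map_top, ← Submodule.map_smul''] at h
    obtain ⟨z, hz, hzk⟩ := h
    exact ⟨a k - z, by simp [hzk], by simpa using hz⟩
  choose ν hν hνa using hν
  have hinc : ∀ k, ν (k + n₀ + 1) - ν (k + n₀) ∈ J ^ k • N₀ := fun k => by
    refine hn₀ k ⟨?_, sub_mem (hν _) (hν _)⟩
    have h1 := Submodule.smul_mono (Ideal.pow_le_pow_right (Nat.le_succ (k + n₀))) le_rfl (hνa (k + n₀ + 1))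
    have h2 := hνa (k + n₀)
    have h3 : a (k + n₀ + 1) - a (k + n₀) ∈ (J ^ (k + n₀) • ⊤ : Submodule B F) :=
      SModEq.sub_mem.1 (a.2 (Nat.le_succ (k + n₀))).symm
    have h4 := add_mem (sub_mem h3 h1) h2
    have e : ∀ x y z w : F, x - y - (x - z) + (y - w) = z - w := fun x y z w => by abel
    rwa [e] at h4
  let N₁ := N₀ ⊔ Submodule.span B {ν n₀}
  have hN₁ : N₁ ≤ LinearMap.ker p := sup_le hN₀ ((Submodule.span_singleton_le_iff_mem _ _).2 (hν n₀))
  have hc : ∀ k, ν (k + n₀) ∈ N₁ := by
    intro k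
    induction k with
    | zero => rw [Nat.zero_add]; exact Submodule.mem_sup_right (Submodule.mem_span_singleton_self _)
    | succ k ih =>
      have h1 : ν (k + n₀ + 1) - ν (k + n₀) ∈ N₁ := Submodule.mem_sup_left (Submodule.smul_le_right (hinc k))
      have := add_mem h1 ih
      rw [sub_add_cancel] at this
      rwa [Nat.add_right_comm]
  let c : AdicCompletion.AdicCauchySequence J N₁ := AdicCompletion.AdicCauchySequence.mk J N₁
    (fun k => ⟨ν (k + n₀), hc k⟩) fun k => by
      rw [SModEq.comm, SModEq.sub_mem, Submodule.mem_smul_top_iff]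
      show ν (k + 1 + n₀) - ν (k + n₀) ∈ J ^ k • N₁
      rw [Nat.add_right_comm]
      exact Submodule.smul_mono le_rfl le_sup_left (hinc k)
  refine ⟨N₁, hN₁, hfg.sup (Submodule.fg_span_singleton _), AdicCompletion.mk J _ c, ?_⟩
  rw [AdicCompletion.map_mk]
  refine AdicCompletion.ext fun k => (Submodule.Quotient.eq _).2 ?_
  show ν (k + n₀) - a k ∈ _
  have h1 := Submodule.smul_mono (Ideal.pow_le_pow_right (Nat.le_add_right k n₀)) le_rfl (hνa (k + n₀))
  have h3 : a (k + n₀) - a k ∈ (J ^ k • ⊤ : Submodule B F) :=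
    SModEq.sub_mem.1 (a.2 (Nat.le_add_right k n₀)).symm
  have h4 := sub_mem h3 h1
  convert h4 using 1
  abel

/-- the comparison map is bijective for finite modules with Artin–Rees kernels -/
theorem ofTensorProduct_bijective (hAR : ∀ (e : ℕ) (N : Submodule B (Fin e → B)), HasAR J N)
    (M : Type v) [AddCommGroup M] [Module B M] [Module.Finite B M] :
    Function.Bijective (AdicCompletion.ofTensorProduct J M) := by
  refine ⟨(injective_iff_map_eq_zero _).2 fun z hz => ?_, AdicCompletion.ofTensorProduct_surjective_of_finite J M⟩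
  obtain ⟨e, p, hp⟩ := Module.Finite.exists_fin' B M
  obtain ⟨w, rfl⟩ := LinearMap.lTensor_surjective (AdicCompletion J B) hp z
  have hy : AdicCompletion.map J p (AdicCompletion.ofTensorProduct J (Fin e → B) w) = 0 :=
    (LinearMap.congr_fun (AdicCompletion.ofTensorProduct_naturality J p) w).trans hz
  obtain ⟨N₁, hN₁, hfg, x, hx⟩ := mem_range_of_map_eq_zero J p hp (hAR _ _) _ hy
  haveI : Module.Finite B N₁ := Module.Finite.iff_fg.2 hfg
  obtain ⟨v, rfl⟩ := AdicCompletion.ofTensorProduct_surjective_of_finite J N₁ x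
  have hw : w = N₁.subtype.lTensor (AdicCompletion J B) v :=
    (AdicCompletion.ofTensorProduct_bijective_of_pi_of_fintype J (Fin e)).injective
      (hx.symm.trans (LinearMap.congr_fun (AdicCompletion.ofTensorProduct_naturality J N₁.subtype) v))
  rw [hw, ← LinearMap.lTensor_comp_apply,
    show p.comp N₁.subtype = 0 from LinearMap.ext fun x => hN₁ x.2, LinearMap.lTensor_zero, LinearMap.zero_apply]

theorem map_subtype_injective {M : Type v} [AddCommGroup M] [Module B M] (N : Submodule B M) (h : HasAR J N) :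
    Function.Injective (AdicCompletion.map J N.subtype) := by
  obtain ⟨N₀, hN₀, -, n₀, hn₀⟩ := h
  refine (injective_iff_map_eq_zero _).2 fun y hy => ?_
  obtain ⟨a, rfl⟩ := AdicCompletion.mk_surjective J N y
  refine AdicCompletion.mk_zero_of _ _ _ ⟨0, fun k _ => ⟨k + n₀, Nat.le_add_right k n₀, k, le_rfl, ?_⟩⟩
  rw [Submodule.mem_smul_top_iff]
  refine Submodule.smul_mono le_rfl hN₀ (hn₀ k ⟨?_, (a (k + n₀)).2⟩)
  have := congrArg (fun z => z.val (k + n₀)) hy
  simpa using this

/-- the completion is flat -/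
theorem flat_completion (hAR : ∀ (e : ℕ) (N : Submodule B (Fin e → B)), HasAR J N)
    (hAR' : ∀ N : Ideal B, HasAR J N) : Module.Flat B (AdicCompletion J B) := by
  refine Module.Flat.iff_lTensor_injective.2 fun N hN => (injective_iff_map_eq_zero _).2 fun x hx => ?_
  haveI : Module.Finite B N := Module.Finite.iff_fg.2 hN
  apply (ofTensorProduct_bijective J hAR N).injective
  rw [map_zero]
  apply map_subtype_injective J N (hAR' N)
  rw [map_zero]
  exact (LinearMap.congr_fun (AdicCompletion.ofTensorProduct_naturality J N.subtype) x).trans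
    ((congrArg _ hx).trans (map_zero _))

end Groth.TopFinType
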