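import Groth.Agent.TopFinType.Base
import Groth.Agent.TopFinType.ArtinRees
import Mathlib.RingTheory.Filtration
import Mathlib.Algebra.Module.FinitePresentation

/-! Artin–Rees, completeness and finite presentation over algebras topologically of finite type. -/

set_option autoImplicit false

universe u v w

open AdicRing
open scoped Pointwise

namespace Groth.TopFinType

variable {R : Type u} [CommRing R] {I : Ideal R}

/-- Artin–Rees -/
theorem hasAR {A : Type u} [CommRing A] [Algebra R A] (hR : IsBase R I) (hA : TopFiniteType R I A)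
    {B : Type u} [CommRing B] [Algebra R B] [Algebra A B] [IsScalarTower R A B] [Algebra.FiniteType A B]
    {M : Type w} [AddCommGroup M] [Module B M] [Module.Finite B M] (N : Submodule B M) :
    HasAR (I.map (algebraMap R B)) N := by
  letI : Module R M := Module.compHom M (algebraMap R B)
  haveI : IsScalarTower R B M := IsScalarTower.of_algebraMap_smul fun r x => rfl
  obtain ⟨hc, ⟨hnoe, -⟩ | ⟨hdom, hpre, hdim, t, ht, rfl⟩⟩ := id hR
  · obtain ⟨n, φ, hφ⟩ := hA
    haveI := hnoe
    haveI := rPow_noetherian (I := I) n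
    haveI : IsNoetherianRing A := isNoetherianRing_of_surjective (RPow R I n) A φ.toRingHom hφ
    haveI : IsNoetherianRing B := Algebra.FiniteType.isNoetherianRing A B
    haveI : IsNoetherian B M := isNoetherian_of_isNoetherianRing_of_finite B M
    obtain ⟨k, hk⟩ := Ideal.exists_pow_inf_eq_pow_smul (I.map (algebraMap R B)) N
    refine ⟨N, le_rfl, IsNoetherian.noetherian N, k, fun j => ?_⟩
    rw [hk (j + k) (Nat.le_add_left k j), Nat.add_sub_cancel]
    exact Submodule.smul_mono le_rfl inf_le_right
  · set τ := algebraMap R B t with hτ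
    let Ns : Submodule B M :=
      { carrier := {x | ∃ k, τ ^ k • x ∈ N}
        add_mem' := by
          rintro x y ⟨k, hk⟩ ⟨l, hl⟩
          refine ⟨k + l, ?_⟩
          rw [smul_add]
          exact N.add_mem (by rw [pow_add, mul_comm, mul_smul]; exact N.smul_mem _ hk)
            (by rw [pow_add, mul_smul]; exact N.smul_mem _ hl)
        zero_mem' := ⟨0, by simp⟩
        smul_mem' := by
          rintro b x ⟨k, hk⟩
          exact ⟨k, by rw [smul_comm]; exact N.smul_mem b hk⟩ }
    have hNs : Ns.FG := fg_of_saturated hR hA Ns fun x hx => by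
      obtain ⟨k, hk⟩ := hx t (Ideal.mem_span_singleton_self t)
      exact ⟨k + 1, by rw [pow_succ, mul_smul, hτ, algebraMap_smul]; exact hk⟩
    obtain ⟨s, hs⟩ := id hNs
    have hb : ∃ n₀, ∀ x ∈ Ns, τ ^ n₀ • x ∈ N := by
      have hk : ∀ x : s, ∃ k, τ ^ k • (x : M) ∈ N := fun x =>
        (hs ▸ Submodule.subset_span x.2 : (x : M) ∈ Ns)
      choose k hk using hk
      refine ⟨Finset.univ.sup k, fun x hx => ?_⟩
      rw [← hs] at hx
      induction hx using Submodule.span_induction with
      | mem x hx =>
        obtain ⟨d, hd⟩ := Nat.exists_eq_add_of_le (Finset.le_sup (f := k) (Finset.mem_univ ⟨x, hx⟩))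
        rw [hd, add_comm, pow_add, mul_smul]
        exact N.smul_mem _ (hk ⟨x, hx⟩)
      | zero => rw [smul_zero]; exact N.zero_mem
      | add x y _ _ hx hy => rw [smul_add]; exact N.add_mem hx hy
      | smul b x _ hx => rw [smul_comm]; exact N.smul_mem b hx
    obtain ⟨n₀, hn₀⟩ := hb
    refine ⟨Ns.map (τ ^ n₀ • (LinearMap.id : M →ₗ[B] M)), ?_, hNs.map _, n₀, fun j => ?_⟩
    · rintro _ ⟨x, hx, rfl⟩
      exact hn₀ x hx
    rw [map_span_singleton, Ideal.span_singleton_pow, Ideal.span_singleton_pow,
      Submodule.ideal_span_singleton_smul, Submodule.ideal_span_singleton_smul]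
    rintro x ⟨hx, hxN⟩
    obtain ⟨y, -, rfl⟩ := (Submodule.mem_smul_pointwise_iff_exists _ _ _).1 hx
    refine (Submodule.mem_smul_pointwise_iff_exists _ _ _).2
      ⟨τ ^ n₀ • y, ⟨y, ⟨j + n₀, hxN⟩, rfl⟩, ?_⟩
    rw [smul_smul, ← pow_add]

variable {A : Type u} [CommRing A] [Algebra R A]

theorem pow_smul_restrictScalars {M : Type w} [AddCommGroup M] [Module A M] [Module R M] [IsScalarTower R A M]
    (k : ℕ) (N : Submodule A M) :
    I ^ k • N.restrictScalars R = ((I.map (algebraMap R A)) ^ k • N).restrictScalars R := by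
  rw [← Ideal.map_pow, Ideal.smul_restrictScalars]

theorem artinRees (hR : IsBase R I) (hA : TopFiniteType R I A) {M : Type w} [AddCommGroup M] [Module A M]
    [Module R M] [IsScalarTower R A M] [Module.Finite A M] (N : Submodule A M) :
    ∃ n₀ : ℕ, ∀ m : ℕ,
      (I ^ (m + n₀) • (⊤ : Submodule R M)) ⊓ N.restrictScalars R ≤ I ^ m • N.restrictScalars R := by
  haveI : Algebra.FiniteType A A := ⟨⟨∅, Subsingleton.elim _ _⟩⟩
  obtain ⟨N₀, hN₀, -, n₀, h⟩ := hasAR hR hA (B := A) N
  refine ⟨n₀, fun m x hx => ?_⟩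
  rw [← Submodule.restrictScalars_top (S := R) (R := A), pow_smul_restrictScalars] at hx
  rw [pow_smul_restrictScalars]
  exact Submodule.smul_mono le_rfl hN₀ (h m ⟨hx.1, hx.2⟩)

theorem map_le_jacobson (hR : IsBase R I) (hA : TopFiniteType R I A) :
    I.map (algebraMap R A) ≤ (⊥ : Ideal A).jacobson := by
  obtain ⟨n, φ, hφ⟩ := hA
  haveI := rPow_complete (fg_of_isBase hR) n
  intro x hx
  rw [← φ.comp_algebraMap, ← Ideal.map_map] at hx
  obtain ⟨c, hc, rfl⟩ := (Ideal.mem_map_iff_of_surjective φ.toRingHom hφ).1 hx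
  rw [Ideal.mem_jacobson_bot]
  intro y
  obtain ⟨y, rfl⟩ := hφ y
  have := (Ideal.mem_jacobson_bot.1 (IsAdicComplete.le_jacobson_bot _ hc) y).map φ
  simpa using this

theorem isPrecomplete_of_surjective {S : Type*} [CommRing S] {J : Ideal S} {N : Type*} [AddCommGroup N]
    [Module S N] {M : Type*} [AddCommGroup M] [Module S M] [IsPrecomplete J N] {f : N →ₗ[S] M}
    (hf : Function.Surjective f) : IsPrecomplete J M := by
  rw [← AdicCompletion.of_surjective_iff]
  intro y
  obtain ⟨z, rfl⟩ := AdicCompletion.map_surjective J hf y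
  obtain ⟨x, rfl⟩ := AdicCompletion.of_surjective J N z
  exact ⟨f x, (AdicCompletion.map_of J f x).symm⟩

theorem isHausdorff_map (hR : IsBase R I) (hA : TopFiniteType R I A) {M : Type w} [AddCommGroup M] [Module A M]
    [Module.Finite A M] : IsHausdorff (I.map (algebraMap R A)) M := ⟨fun x hx => by
  haveI : Algebra.FiniteType A A := ⟨⟨∅, Subsingleton.elim _ _⟩⟩
  obtain ⟨N₀, hN₀, -, n₀, h⟩ := hasAR hR hA (B := A) (Submodule.span A {x})
  have h1 : x ∈ (I.map (algebraMap R A)) ^ 1 • Submodule.span A {x} :=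
    Submodule.smul_mono le_rfl hN₀ (h 1 ⟨SModEq.zero.1 (hx _), Submodule.mem_span_singleton_self x⟩)
  rw [pow_one, Submodule.mem_smul_span_singleton] at h1
  obtain ⟨c, hc, hcx⟩ := h1
  have hu : IsUnit (1 - c) := by
    have := Ideal.mem_jacobson_bot.1 (map_le_jacobson hR hA hc) (-1)
    rwa [mul_neg, mul_one, neg_add_eq_sub] at this
  have : (1 - c) • x = 0 := by rw [sub_smul, one_smul, hcx, sub_self]
  exact (IsUnit.smul_eq_zero hu).1 this⟩

/-- finite modules are complete and separated -/
theorem isAdicComplete (hR : IsBase R I) (hA : TopFiniteType R I A) {M : Type w} [AddCommGroup M] [Module A M]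
    [Module R M] [IsScalarTower R A M] [Module.Finite A M] : IsAdicComplete I M := by
  have hH : IsHausdorff (I.map (algebraMap R A)) M := isHausdorff_map hR hA
  haveI : IsHausdorff I M := IsHausdorff.map_algebraMap_iff.1 hH
  suffices IsPrecomplete I M from ⟨⟩
  obtain ⟨n, φ, hφ⟩ := hA
  haveI := rPow_complete (fg_of_isBase hR) n
  letI : Module (RPow R I n) M := Module.compHom M φ.toRingHom
  letI : Algebra (RPow R I n) A := φ.toRingHom.toAlgebra
  haveI : IsScalarTower (RPow R I n) A M := IsScalarTower.of_algebraMap_smul fun r x => rfl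
  haveI : Module.Finite (RPow R I n) A := Module.Finite.of_surjective (Algebra.linearMap _ A) hφ
  haveI : Module.Finite (RPow R I n) M := Module.Finite.trans A M
  haveI : IsScalarTower R (RPow R I n) M := IsScalarTower.of_algebraMap_smul fun r x => by
    show φ (algebraMap R (RPow R I n) r) • x = r • x
    rw [φ.commutes, algebraMap_smul]
  obtain ⟨e, p, hp⟩ := Module.Finite.exists_fin' (RPow R I n) M
  haveI := Groth.Calg1.isPrecomplete_pi (I.map (algebraMap R (RPow R I n))) e
  exact IsPrecomplete.map_algebraMap_iff.1 (isPrecomplete_of_surjective (J := I.map (algebraMap R (RPow R I n))) hp)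

theorem noPowTorsion_base (hR : IsBase R I) : NoPowTorsion I R := by
  obtain ⟨-, ⟨-, h⟩ | ⟨hdom, -, -, t, ht, rfl⟩⟩ := hR
  · exact h
  · haveI := hdom
    intro x k hx
    have := hx (t ^ k) (Ideal.pow_mem_pow (Ideal.mem_span_singleton_self t) k)
    exact (mul_eq_zero.1 this).resolve_left (pow_ne_zero k ht)

/-- flat modules have no torsion with respect to `I` -/
theorem eq_zero_of_flat (hR : IsBase R I) {M : Type w} [AddCommGroup M] [Module R M] [Module.Flat R M]
    {x : M} (hx : ∀ a ∈ I, a • x = 0) : x = 0 := by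
  obtain ⟨k, a, ha⟩ := Submodule.fg_iff_exists_fin_generating_family.1 (fg_of_isBase hR)
  let g : R →ₗ[R] Fin k → R := LinearMap.pi fun i => a i • LinearMap.id
  have hg : Function.Injective g := (injective_iff_map_eq_zero _).2 fun r hr =>
    noPowTorsion_base hR r 1 fun b hb => by
      rw [pow_one, ← ha] at hb
      induction hb using Submodule.span_induction with
      | mem b hb =>
        obtain ⟨i, rfl⟩ := hb
        simpa [g] using congrFun hr i
      | zero => simp
      | add b c _ _ hb hc => rw [add_smul, hb, hc, add_zero]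
      | smul s b _ hb => rw [smul_assoc, hb, smul_zero]
  have h1 := Module.Flat.lTensor_preserves_injective_linearMap (M := M) g hg
  have h2 : TensorProduct.piRight R R M (fun _ : Fin k => R) (g.lTensor M (x ⊗ₜ 1)) = 0 := by
    ext i
    rw [LinearMap.lTensor_tmul, TensorProduct.piRight_apply, TensorProduct.piRightHom_tmul]
    have : a i • x = 0 := hx _ (ha ▸ Submodule.subset_span ⟨i, rfl⟩)
    have h5 : x ⊗ₜ[R] a i = 0 := by
      rw [show a i = a i • (1 : R) by simp, ← TensorProduct.smul_tmul, this, TensorProduct.zero_tmul]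
    simpa [g] using h5
  rw [LinearEquiv.map_eq_zero_iff] at h2
  have h3 : x ⊗ₜ[R] (1 : R) = 0 := h1 (h2.trans (map_zero _).symm)
  simpa using congrArg (TensorProduct.rid R M) h3

/-- finite modules which are flat over the base are finitely presented -/
theorem finitePresentation_of_flat (hR : IsBase R I) (hA : TopFiniteType R I A) {M : Type w} [AddCommGroup M]
    [Module A M] [Module R M] [IsScalarTower R A M] [Module.Finite A M] [Module.Flat R M] :
    Module.FinitePresentation A M := by
  haveI : Algebra.FiniteType A A := ⟨⟨∅, Subsingleton.elim _ _⟩⟩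
  obtain ⟨e, p, hp⟩ := Module.Finite.exists_fin' A M
  refine Module.finitePresentation_of_surjective p hp (fg_of_saturated hR hA _ fun x hx => ?_)
  refine eq_zero_of_flat hR fun a ha => ?_
  have h1 : p (a • x) = 0 := hx a ha
  rwa [LinearMap.map_smul_of_tower] at h1

theorem topFiniteType_rPow (I : Ideal R) (n : ℕ) : TopFiniteType R I (RPow R I n) :=
  ⟨n, AlgHom.id R _, Function.surjective_id⟩

theorem topFinitePresentation_of_noPowTorsion (hR : IsBase R I) (hA : TopFiniteType R I A)
    (hT : NoPowTorsion I A) : TopFinitePresentation R I A := by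
  obtain ⟨n, φ, hφ⟩ := hA
  haveI : Algebra.FiniteType (RPow R I n) (RPow R I n) := ⟨⟨∅, Subsingleton.elim _ _⟩⟩
  refine ⟨n, φ, hφ, fg_of_saturated hR (topFiniteType_rPow I n) (B := RPow R I n) _ fun x hx => ?_⟩
  refine hT _ 1 fun a ha => ?_
  have h1 : φ (a • x) = 0 := hx a (by simpa using ha)
  rwa [map_smul] at h1

theorem topFiniteType_of_topFinitePresentation (h : TopFinitePresentation R I A) : TopFiniteType R I A :=
  ⟨_, _, h.choose_spec.choose_spec.1⟩

end Groth.TopFinType
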