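import Groth.Agent.TopFinType.Rig
import Mathlib.RingTheory.FinitePresentation

/-! Finite presentation of the truncations. -/

set_option autoImplicit false

universe u

open AdicRing

namespace Groth.TopFinType

variable {R : Type u} [CommRing R] {I : Ideal R} {n : ℕ}

/-- reduction of restricted power series modulo a power of the ideal -/
noncomputable def redPow (I : Ideal R) (n k : ℕ) : RPow R I n →+* MvPolynomial (Fin n) (R ⧸ I ^ k) :=
  (Ideal.Quotient.lift ((I.map MvPolynomial.C) ^ k) (MvPolynomial.map (Ideal.Quotient.mk (I ^ k))) fun p hp => by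
    rw [← Ideal.map_pow] at hp
    rwa [← RingHom.mem_ker, MvPolynomial.ker_map, Ideal.mk_ker]).comp (AdicCompletion.evalₐ _ k).toRingHom

theorem redPow_of (k : ℕ) (p : MvPolynomial (Fin n) R) :
    redPow I n k (algebraMap (MvPolynomial (Fin n) R) (RPow R I n) p) =
      MvPolynomial.map (Ideal.Quotient.mk (I ^ k)) p := by
  rw [redPow, RingHom.comp_apply]
  show Ideal.Quotient.lift _ _ _ (AdicCompletion.evalₐ _ k _) = _
  rw [Groth.AdicLinTop.CompletionQuot.evalₐ_algebraMap, Ideal.Quotient.lift_mk]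

theorem redPow_surjective (k : ℕ) : Function.Surjective (redPow I n k) := fun y => by
  obtain ⟨p, rfl⟩ := MvPolynomial.map_surjective _ Ideal.Quotient.mk_surjective y
  exact ⟨_, redPow_of k p⟩

theorem ker_redPow (hI : I.FG) (k : ℕ) :
    RingHom.ker (redPow I n k) = (I.map (algebraMap R (RPow R I n))) ^ k := by
  rw [map_algebraMap_rPow, ← Groth.AdicLinTop.CompletionQuot.ker_evalₐ _ (hI.map _) k]
  ext b
  obtain ⟨p, hp⟩ := Ideal.Quotient.mk_surjective (AdicCompletion.evalₐ _ k b)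
  rw [RingHom.mem_ker, RingHom.mem_ker, redPow, RingHom.comp_apply]
  show Ideal.Quotient.lift _ _ _ (AdicCompletion.evalₐ _ k b) = 0 ↔ AdicCompletion.evalₐ _ k b = 0
  rw [← hp, Ideal.Quotient.lift_mk, Ideal.Quotient.eq_zero_iff_mem, ← Ideal.map_pow, ← RingHom.mem_ker,
    MvPolynomial.ker_map, Ideal.mk_ker]

variable {A : Type u} [CommRing A] [Algebra R A]

theorem exists_truncPresentation (hI : I.FG) (φ : RPow R I n →ₐ[R] A) (hφ : Function.Surjective φ) (k : ℕ) :
    ∃ Θ : MvPolynomial (Fin n) (R ⧸ I ^ k) →+* A ⧸ (I ^ k).map (algebraMap R A),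
      Function.Surjective Θ ∧
      Θ.comp MvPolynomial.C = Ideal.quotientMap ((I ^ k).map (algebraMap R A)) (algebraMap R A) Ideal.le_comap_map ∧
      RingHom.ker Θ = (RingHom.ker φ.toRingHom).map (redPow I n k) := by
  set q := (I ^ k).map (algebraMap R A) with hq
  let f : RPow R I n →+* A ⧸ q := (Ideal.Quotient.mk q).comp φ.toRingHom
  have hmap : ((I.map (algebraMap R (RPow R I n))) ^ k).map φ.toRingHom = q := by
    rw [← Ideal.map_pow, Ideal.map_map, show φ.toRingHom.comp (algebraMap R (RPow R I n)) = algebraMap R A from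
      RingHom.ext φ.commutes]
  have hle : RingHom.ker (redPow I n k) ≤ RingHom.ker f := fun x hx => by
    rw [ker_redPow hI] at hx
    exact Ideal.Quotient.eq_zero_iff_mem.2 (hmap ▸ Ideal.mem_map_of_mem _ hx)
  let Θ : MvPolynomial (Fin n) (R ⧸ I ^ k) →+* A ⧸ q :=
    RingHom.liftOfSurjective (redPow I n k) (redPow_surjective k) ⟨f, hle⟩
  have hΘ : ∀ x, Θ (redPow I n k x) = f x := fun x =>
    RingHom.liftOfSurjective_comp_apply (redPow I n k) (redPow_surjective k) ⟨f, hle⟩ x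
  refine ⟨Θ, fun y => ?_, Ideal.Quotient.ringHom_ext (RingHom.ext fun r => ?_), ?_⟩
  · obtain ⟨a, rfl⟩ := Ideal.Quotient.mk_surjective y
    obtain ⟨x, rfl⟩ := hφ a
    exact ⟨redPow I n k x, hΘ x⟩
  · show Θ (MvPolynomial.C (Ideal.Quotient.mk (I ^ k) r)) = Ideal.Quotient.mk q (algebraMap R A r)
    rw [← MvPolynomial.map_C (Ideal.Quotient.mk (I ^ k)), ← redPow_of, hΘ]
    show Ideal.Quotient.mk q (φ _) = _
    rw [show algebraMap (MvPolynomial (Fin n) R) (RPow R I n) (MvPolynomial.C r) = algebraMap R (RPow R I n) r from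
      (IsScalarTower.algebraMap_apply R (MvPolynomial (Fin n) R) (RPow R I n) r).symm, φ.commutes]
  · refine le_antisymm (fun y hy => ?_) (Ideal.map_le_iff_le_comap.2 fun x hx => ?_)
    · obtain ⟨x, rfl⟩ := redPow_surjective k y
      rw [RingHom.mem_ker, hΘ] at hy
      have hy' : φ x ∈ q := Ideal.Quotient.eq_zero_iff_mem.1 hy
      rw [← hmap, Ideal.mem_map_iff_of_surjective φ.toRingHom hφ] at hy'
      obtain ⟨z, hz, hzx⟩ := hy'
      have h1 : redPow I n k z = 0 := by rw [← RingHom.mem_ker, ker_redPow hI]; exact hz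
      rw [show redPow I n k x = redPow I n k (x - z) by rw [map_sub, h1, sub_zero]]
      exact Ideal.mem_map_of_mem _ (by rw [RingHom.mem_ker, map_sub, hzx]; exact sub_self _)
    · rw [Ideal.mem_comap, RingHom.mem_ker, hΘ]
      show Ideal.Quotient.mk q (φ x) = 0
      rw [show φ x = 0 from hx, map_zero]

theorem trunc_finitePresentation (hI : I.FG) (h : TopFinitePresentation R I A) (k : ℕ) :
    (Ideal.quotientMap ((I ^ k).map (algebraMap R A)) (algebraMap R A) Ideal.le_comap_map).FinitePresentation := by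
  obtain ⟨n, φ, hφ, hK⟩ := h
  obtain ⟨Θ, hΘ, hC, hker⟩ := exists_truncPresentation hI φ hφ k
  letI := (Ideal.quotientMap ((I ^ k).map (algebraMap R A)) (algebraMap R A) Ideal.le_comap_map).toAlgebra
  let Θ' : MvPolynomial (Fin n) (R ⧸ I ^ k) →ₐ[R ⧸ I ^ k] A ⧸ (I ^ k).map (algebraMap R A) :=
    AlgHom.mk Θ (RingHom.congr_fun hC)
  exact Algebra.FinitePresentation.of_surjective (f := Θ') hΘ (by
    show (RingHom.ker Θ).FG
    rw [hker]; exact hK.map _)

theorem finiteType_of_trunc_zero (J : Ideal R) (hJ : J = I)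
    (h : (Ideal.quotientMap (J.map (algebraMap R A)) (algebraMap R A) Ideal.le_comap_map).FiniteType) :
    (Ideal.quotientMap (I.map (algebraMap R A)) (algebraMap R A) Ideal.le_comap_map).FiniteType := by
  subst hJ; exact h

theorem topFinitePresentation_of_trunc (hR : IsBase R I) [IsAdicComplete (I.map (algebraMap R A)) A]
    (h : ∀ k : ℕ, (Ideal.quotientMap ((I ^ (k + 1)).map (algebraMap R A)) (algebraMap R A)
      Ideal.le_comap_map).FinitePresentation) : TopFinitePresentation R I A := by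
  classical
  have hI := fg_of_isBase hR
  obtain ⟨n, φ, hφ⟩ := Groth.Agent.S2293.result R I hI A
    (finiteType_of_trunc_zero (I ^ (0 + 1)) (by simp) (RingHom.FiniteType.of_finitePresentation (h 0)))
  refine ⟨n, φ, hφ, ?_⟩
  set K := RingHom.ker φ.toRingHom
  haveI : Algebra.FiniteType (RPow R I n) (RPow R I n) := ⟨⟨∅, Subsingleton.elim _ _⟩⟩
  obtain ⟨K₀, hK₀, hK₀fg, n₀, hAR⟩ := hasAR hR (topFiniteType_rPow I n) (B := RPow R I n) K
  obtain ⟨Θ, hΘ, hC, hker⟩ := exists_truncPresentation hI φ hφ (n₀ + 1)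
  letI := (Ideal.quotientMap ((I ^ (n₀ + 1)).map (algebraMap R A)) (algebraMap R A) Ideal.le_comap_map).toAlgebra
  haveI : Algebra.FinitePresentation (R ⧸ I ^ (n₀ + 1)) (A ⧸ (I ^ (n₀ + 1)).map (algebraMap R A)) := h n₀
  let Θ' : MvPolynomial (Fin n) (R ⧸ I ^ (n₀ + 1)) →ₐ[R ⧸ I ^ (n₀ + 1)] A ⧸ (I ^ (n₀ + 1)).map (algebraMap R A) :=
    AlgHom.mk Θ (RingHom.congr_fun hC)
  have hfg : (RingHom.ker Θ).FG := Algebra.FinitePresentation.ker_fG_of_surjective Θ' hΘ
  rw [hker] at hfg
  obtain ⟨s, hs⟩ := hfg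
  have hlift : ∀ y : s, ∃ x ∈ K, redPow I n (n₀ + 1) x = y := fun y =>
    (Ideal.mem_map_iff_of_surjective _ (redPow_surjective _)).1 (hs ▸ Submodule.subset_span y.2)
  choose g hgK hg using hlift
  let G := Ideal.span (Set.range g)
  have hGK : G ≤ K := Ideal.span_le.2 (Set.range_subset_iff.2 hgK)
  suffices hKeq : K = G ⊔ K₀ by
    rw [hKeq]
    exact (Submodule.fg_span (Set.finite_range g)).sup hK₀fg
  refine le_antisymm (fun x hx => ?_) (sup_le hGK hK₀)
  have h1 : redPow I n (n₀ + 1) x ∈ G.map (redPow I n (n₀ + 1)) := by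
    have h2 : redPow I n (n₀ + 1) x ∈ K.map (redPow I n (n₀ + 1)) := Ideal.mem_map_of_mem _ hx
    rw [← hs] at h2
    refine (Ideal.span_le.2 fun y hy => ?_) h2
    rw [show y = redPow I n (n₀ + 1) (g ⟨y, hy⟩) from (hg ⟨y, hy⟩).symm]
    exact Ideal.mem_map_of_mem _ (Ideal.subset_span ⟨_, rfl⟩)
  obtain ⟨y, hy, hyx⟩ := (Ideal.mem_map_iff_of_surjective _ (redPow_surjective _)).1 h1
  have h3 : x - y ∈ (I.map (algebraMap R (RPow R I n))) ^ (n₀ + 1) := by
    rw [← ker_redPow hI, RingHom.mem_ker, map_sub, hyx, sub_self]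
  have h4 : x - y ∈ K₀ := by
    have := hAR 0 (x := x - y) ⟨by
      rw [smul_eq_mul, Ideal.mul_top, Nat.zero_add]
      exact Ideal.pow_le_pow_right (Nat.le_succ n₀) h3, K.sub_mem hx (hGK hy)⟩
    rwa [pow_zero, Ideal.one_eq_top, Submodule.top_smul] at this
  exact Submodule.mem_sup.2 ⟨y, hy, x - y, h4, by ring⟩

end Groth.TopFinType
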