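import Groth.Agent.TopFinType.Division
import Mathlib.Algebra.TrivSqZeroExt.Basic
import Mathlib.Algebra.MvPolynomial.Equiv
import Mathlib.RingTheory.Finiteness.Ideal
import Mathlib.RingTheory.MvPolynomial.Homogeneous
import Mathlib.RingTheory.Finiteness.Basic

/-! Saturated ideals and submodules over polynomial rings in restricted power series. -/

set_option autoImplicit false

universe u v w

open MvPolynomial

namespace Groth.TopFinType

/-- every `a`-saturated ideal is finitely generated -/
def SatFG (A : Type*) [CommRing A] (a : A) : Prop :=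
  ∀ J : Ideal A, (∀ x, a * x ∈ J → x ∈ J) → J.FG

theorem SatFG.of_ringEquiv {A A' : Type*} [CommRing A] [CommRing A'] (e : A ≃+* A') {a : A} {a' : A'}
    (ha : e a = a') (h : SatFG A a) : SatFG A' a' := by
  intro J hJ
  have h1 : (J.comap (e : A →+* A')).FG := h _ fun x hx => hJ _ (by
    rw [Ideal.mem_comap, map_mul] at hx
    rw [← ha]
    exact hx)
  rw [← Ideal.map_comap_of_surjective (e : A →+* A') e.surjective J]
  exact h1.map _

/-- saturated submodules of finite modules are finitely generated -/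
theorem fg_of_satFG {A : Type u} [CommRing A] {a : A}
    (h : ∀ s : ℕ, SatFG (MvPolynomial (Fin s) A) (C a))
    {M : Type v} [AddCommGroup M] [Module A M] [Module.Finite A M] (N : Submodule A M)
    (hN : ∀ x, a • x ∈ N → x ∈ N) : N.FG := by
  classical
  letI : Module Aᵐᵒᵖ M := Module.compHom M ((RingHom.id A).fromOpposite mul_comm)
  haveI : IsCentralScalar A M := ⟨fun r m => rfl⟩
  obtain ⟨s, g, hg⟩ := Module.Finite.exists_fin (R := A) (M := M)
  let φ : MvPolynomial (Fin s) A →ₐ[A] TrivSqZeroExt A M := aeval fun i => TrivSqZeroExt.inr (g i)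
  have hφ : Function.Surjective φ := by
    intro y
    have h1 : ∀ x : M, TrivSqZeroExt.inr x ∈ φ.range := fun x => by
      have hx : x ∈ Submodule.span A (Set.range g) := hg ▸ Submodule.mem_top
      induction hx using Submodule.span_induction with
      | mem x hx =>
        obtain ⟨i, rfl⟩ := hx
        exact ⟨X i, aeval_X _ i⟩
      | zero => rw [TrivSqZeroExt.inr_zero]; exact zero_mem _
      | add x y _ _ hx hy => rw [TrivSqZeroExt.inr_add]; exact add_mem hx hy
      | smul r x _ hx => rw [TrivSqZeroExt.inr_smul]; exact Subalgebra.smul_mem _ hx r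
    obtain ⟨p, hp⟩ := h1 y.snd
    replace hp : φ p = TrivSqZeroExt.inr y.snd := hp
    exact ⟨C y.fst + p, by
      rw [map_add, hp, algHom_C, TrivSqZeroExt.algebraMap_eq_inl, TrivSqZeroExt.inl_fst_add_inr_snd_eq]⟩
  have hop : ∀ (r : A) (m : M), MulOpposite.op r • m = r • m := fun r m => rfl
  have hsmul : ∀ (z : TrivSqZeroExt A M) (k : ℕ) (y : M), a ^ k * z.fst = 0 → z.fst • y ∈ N := by
    intro z k y hz
    have : a ^ k • z.fst • y ∈ N := by rw [smul_smul, hz, zero_smul]; exact N.zero_mem
    clear hz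
    induction k with
    | zero => simpa using this
    | succ k ih => exact ih (hN _ (by rwa [pow_succ', mul_smul] at this))
  let W : Ideal (TrivSqZeroExt A M) :=
    { carrier := {z | (∃ k, a ^ k * z.fst = 0) ∧ z.snd ∈ N}
      add_mem' := by
        rintro z z' ⟨⟨k, hk⟩, hz⟩ ⟨⟨k', hk'⟩, hz'⟩
        refine ⟨⟨k + k', ?_⟩, by rw [TrivSqZeroExt.snd_add]; exact N.add_mem hz hz'⟩
        rw [TrivSqZeroExt.fst_add, mul_add, pow_add, mul_assoc (a ^ k) (a ^ k') z'.fst, hk', mul_comm (a ^ k),
          mul_assoc, hk, mul_zero, mul_zero, add_zero]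
      zero_mem' := ⟨⟨0, by simp⟩, by simp⟩
      smul_mem' := by
        rintro y z ⟨⟨k, hk⟩, hz⟩
        refine ⟨⟨k, ?_⟩, ?_⟩
        · rw [smul_eq_mul, TrivSqZeroExt.fst_mul, mul_left_comm, hk, mul_zero]
        · rw [smul_eq_mul, TrivSqZeroExt.snd_mul, hop]
          exact N.add_mem (N.smul_mem _ hz) (hsmul z k _ hk) }
  have hW : ∀ z, z ∈ W ↔ (∃ k, a ^ k * z.fst = 0) ∧ z.snd ∈ N := fun z => Iff.rfl
  have hsat : ∀ p, C a * p ∈ W.comap φ → p ∈ W.comap φ := by
    intro p hp
    rw [Ideal.mem_comap, map_mul, algHom_C, TrivSqZeroExt.algebraMap_eq_inl, hW, TrivSqZeroExt.fst_mul,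
      TrivSqZeroExt.fst_inl, TrivSqZeroExt.snd_mul, TrivSqZeroExt.fst_inl, TrivSqZeroExt.snd_inl,
      smul_zero, add_zero] at hp
    obtain ⟨⟨k, hk⟩, hz⟩ := hp
    rw [Ideal.mem_comap, hW]
    exact ⟨⟨k + 1, by rw [pow_succ, mul_assoc]; exact hk⟩, hN _ hz⟩
  have hWfg : W.FG := by
    rw [← Ideal.map_comap_of_surjective φ hφ W]
    exact (h s (W.comap φ) hsat).map _
  obtain ⟨G, hG⟩ := hWfg
  have hGW : ∀ z ∈ G, z ∈ W := fun z hz => hG ▸ Ideal.subset_span hz
  refine ⟨G.image TrivSqZeroExt.snd ∪ (G ×ˢ (Finset.univ : Finset (Fin s))).image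
    (fun p => p.1.fst • g p.2), le_antisymm (Submodule.span_le.2 ?_) fun x hx => ?_⟩
  · intro x hx
    simp only [Finset.coe_union, Finset.coe_image, Set.mem_union, Set.mem_image, Finset.mem_coe,
      Finset.mem_product] at hx
    rcases hx with ⟨z, hz, rfl⟩ | ⟨⟨z, i⟩, ⟨hz, -⟩, rfl⟩
    · exact (hGW z hz).2
    · obtain ⟨⟨k, hk⟩, -⟩ := hGW z hz
      exact hsmul z k _ hk
  set T := Submodule.span A (↑(G.image TrivSqZeroExt.snd ∪ (G ×ˢ (Finset.univ : Finset (Fin s))).image
    (fun p => p.1.fst • g p.2)) : Set M)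
  have key : ∀ z ∈ Ideal.span (G : Set (TrivSqZeroExt A M)), z.snd ∈ T ∧ ∀ y : M, z.fst • y ∈ T := by
    intro z hz
    induction hz using Submodule.span_induction with
    | mem z hz =>
      refine ⟨Submodule.subset_span (Finset.mem_union_left _ (Finset.mem_image_of_mem _ hz)), fun y => ?_⟩
      have hy : y ∈ Submodule.span A (Set.range g) := hg ▸ Submodule.mem_top
      induction hy using Submodule.span_induction with
      | mem y hy =>
        obtain ⟨i, rfl⟩ := hy
        exact Submodule.subset_span (Finset.mem_union_right _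
          (Finset.mem_image.2 ⟨(z, i), Finset.mem_product.2 ⟨hz, Finset.mem_univ i⟩, rfl⟩))
      | zero => rw [smul_zero]; exact T.zero_mem
      | add x y _ _ hx hy => rw [smul_add]; exact T.add_mem hx hy
      | smul r y _ hy => rw [smul_comm]; exact T.smul_mem r hy
    | zero => exact ⟨by simp, fun y => by simp⟩
    | add z z' _ _ hz hz' =>
      exact ⟨by rw [TrivSqZeroExt.snd_add]; exact T.add_mem hz.1 hz'.1,
        fun y => by rw [TrivSqZeroExt.fst_add, add_smul]; exact T.add_mem (hz.2 y) (hz'.2 y)⟩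
    | smul w z _ hz =>
      rw [smul_eq_mul]
      exact ⟨by rw [TrivSqZeroExt.snd_mul, hop]; exact T.add_mem (T.smul_mem _ hz.1) (hz.2 _),
        fun y => by rw [TrivSqZeroExt.fst_mul, mul_smul]; exact T.smul_mem _ (hz.2 y)⟩
  have := (key (TrivSqZeroExt.inr x) (by
    rw [hG, hW]
    exact ⟨⟨0, by simp⟩, by simpa using hx⟩)).1
  simpa using this

namespace Model

variable {R : Type u} [CommRing R] [IsDomain R] [ValuationRing R] [Ring.KrullDimLE 1 R]
  {t : R} [IsAdicComplete (Ideal.span {t}) R] {n : ℕ} {B : Type u} [CommRing B] [Algebra R B]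

theorem satFG_fin (S : Model R t n B) (ht : t ≠ 0) (m : ℕ) :
    SatFG (MvPolynomial (Fin m) B) (C (algebraMap R B t)) := by
  classical
  intro J hJ
  let δ : MvPolynomial (Fin (m + 1)) B →ₐ[B] MvPolynomial (Fin m) B := aeval (Fin.cases 1 X)
  let H : ℕ → Submodule B (MvPolynomial (Fin (m + 1)) B) := fun d =>
    homogeneousSubmodule (Fin (m + 1)) B d ⊓ (J.restrictScalars B).comap δ.toLinearMap
  have hH : ∀ d F, F ∈ H d ↔ F.IsHomogeneous d ∧ δ F ∈ J := fun d F => by
    simp only [H, Submodule.mem_inf, mem_homogeneousSubmodule, Submodule.mem_comap, AlgHom.toLinearMap_apply,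
      Submodule.restrictScalars_mem]
  obtain ⟨G, hG, hGgen⟩ := S.exists_finset_gen ht (H := H)
    (fun d F hF => ((hH d F).1 hF).1)
    (fun d e F hF G hG => (hH _ _).2 ⟨hG.mul ((hH d F).1 hF).1, by
      rw [map_mul]; exact J.mul_mem_left _ ((hH d F).1 hF).2⟩)
    (fun d F hF hF' => (hH _ _).2 ⟨hF, hJ _ (by
      have := ((hH _ _).1 hF').2
      rwa [map_mul, algHom_C] at this)⟩)
  have hren : ∀ p : MvPolynomial (Fin m) B, δ (rename Fin.succ p) = p := fun p => by
    rw [aeval_rename]
    exact (congrArg (fun f => aeval f p) (funext fun i => by simp)).trans (aeval_X_left_apply p)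
  refine ⟨G.image δ, le_antisymm (Submodule.span_le.2 fun x hx => ?_) fun f hf => ?_⟩
  · rw [Finset.coe_image] at hx
    obtain ⟨g, hg, rfl⟩ := hx
    obtain ⟨d, hd⟩ := hG g hg
    exact ((hH d g).1 hd).2
  · let d := f.totalDegree
    let F : MvPolynomial (Fin (m + 1)) B :=
      ∑ i ∈ Finset.range (d + 1), rename Fin.succ (homogeneousComponent i f) * X 0 ^ (d - i)
    have hF : δ F = f := by
      simp only [F, map_sum, map_mul, map_pow, hren]
      rw [show δ (X 0) = 1 from aeval_X _ _]
      simp only [one_pow, mul_one]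
      exact sum_homogeneousComponent f
    have hFd : F ∈ H d := (hH d F).2 ⟨by
      refine IsHomogeneous.sum _ _ _ fun i hi => ?_
      have := (IsHomogeneous.rename_isHomogeneous (f := Fin.succ) (homogeneousComponent_isHomogeneous i f)).mul
        ((isHomogeneous_X B (0 : Fin (m + 1))).pow (d - i))
      rwa [one_mul, Nat.add_sub_cancel' (by simpa [Nat.lt_succ_iff] using hi)] at this, hF.symm ▸ hf⟩
    have := Ideal.mem_map_of_mem δ (hGgen d F hFd)
    rw [hF, Ideal.map_span] at this
    rw [Finset.coe_image]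
    exact this

theorem satFG (S : Model R t n B) (ht : t ≠ 0) (σ : Type) [Finite σ] :
    SatFG (MvPolynomial σ B) (C (algebraMap R B t)) := by
  haveI := Fintype.ofFinite σ
  exact (S.satFG_fin ht (Fintype.card σ)).of_ringEquiv
    (renameEquiv B (Fintype.equivFin σ).symm).toRingEquiv (by simp)

/-- saturated submodules of finite modules over polynomial rings over `B` -/
theorem fg_of_saturated (S : Model R t n B) (ht : t ≠ 0) (m : ℕ)
    {M : Type v} [AddCommGroup M] [Module (MvPolynomial (Fin m) B) M] [Module.Finite (MvPolynomial (Fin m) B) M]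
    (N : Submodule (MvPolynomial (Fin m) B) M)
    (hN : ∀ x : M, (C (algebraMap R B t) : MvPolynomial (Fin m) B) • x ∈ N → x ∈ N) : N.FG :=
  fg_of_satFG (fun s => (S.satFG ht (Fin s ⊕ Fin m)).of_ringEquiv
    (sumAlgEquiv B (Fin s) (Fin m)).toRingEquiv ((sumAlgEquiv B (Fin s) (Fin m)).commutes _)) N hN

end Model

end Groth.TopFinType
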