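import Groth.Prelude.Def_W4bk4boschfrg79
import Groth.Agent.TopFinType.Saturated
import Groth.Agent.AdicLinTop.CompletionQuot
import Groth.Agent.Calg1.Completion
import Mathlib.RingTheory.FiniteType
import Mathlib.RingTheory.Polynomial.Basic

/-! Restricted power series over a base ring; saturated submodules are finitely generated. -/

set_option autoImplicit false

universe u v w

open AdicRing

namespace Groth.TopFinType

variable {R : Type u} [CommRing R] {I : Ideal R} {n : ℕ}

theorem fg_of_isBase (hR : IsBase R I) : I.FG := by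
  obtain ⟨-, ⟨hN, -⟩ | ⟨-, -, -, t, -, rfl⟩⟩ := hR
  · haveI := hN; exact IsNoetherian.noetherian I
  · exact ⟨{t}, by simp⟩

theorem map_algebraMap_rPow :
    I.map (algebraMap R (RPow R I n)) =
      (I.map (MvPolynomial.C : R →+* MvPolynomial (Fin n) R)).map (algebraMap (MvPolynomial (Fin n) R) (RPow R I n)) := by
  rw [Ideal.map_map]; rfl

theorem rPow_complete (hI : I.FG) (n : ℕ) :
    IsAdicComplete (I.map (algebraMap R (RPow R I n))) (RPow R I n) := by
  rw [map_algebraMap_rPow]
  exact Groth.AdicLinTop.CompletionQuot.isAdicComplete_map _ (hI.map _)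

/-- reduction modulo `I` of restricted power series -/
noncomputable def red (I : Ideal R) (n : ℕ) : RPow R I n →+* MvPolynomial (Fin n) (R ⧸ I) :=
  (Ideal.Quotient.lift ((I.map MvPolynomial.C) ^ 1) (MvPolynomial.map (Ideal.Quotient.mk I)) fun p hp => by
    rw [pow_one] at hp
    rwa [← RingHom.mem_ker, MvPolynomial.ker_map, Ideal.mk_ker]).comp (AdicCompletion.evalₐ _ 1).toRingHom

theorem red_of (p : MvPolynomial (Fin n) R) :
    red I n (algebraMap (MvPolynomial (Fin n) R) (RPow R I n) p) = MvPolynomial.map (Ideal.Quotient.mk I) p := by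
  rw [red, RingHom.comp_apply]
  show Ideal.Quotient.lift _ _ _ (AdicCompletion.evalₐ _ 1 _) = _
  rw [Groth.AdicLinTop.CompletionQuot.evalₐ_algebraMap, Ideal.Quotient.lift_mk]

theorem red_surjective : Function.Surjective (red I n) := fun y => by
  obtain ⟨p, rfl⟩ := MvPolynomial.map_surjective _ Ideal.Quotient.mk_surjective y
  exact ⟨_, red_of p⟩

theorem ker_red (hI : I.FG) : RingHom.ker (red I n) = I.map (algebraMap R (RPow R I n)) := by
  rw [map_algebraMap_rPow, ← pow_one ((I.map _).map (algebraMap (MvPolynomial (Fin n) R) (RPow R I n))),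
    ← Groth.AdicLinTop.CompletionQuot.ker_evalₐ _ (hI.map _) 1]
  ext b
  obtain ⟨p, hp⟩ := Ideal.Quotient.mk_surjective (AdicCompletion.evalₐ _ 1 b)
  rw [RingHom.mem_ker, RingHom.mem_ker, red, RingHom.comp_apply]
  show Ideal.Quotient.lift _ _ _ (AdicCompletion.evalₐ _ 1 b) = 0 ↔ AdicCompletion.evalₐ _ 1 b = 0
  rw [← hp, Ideal.Quotient.lift_mk, Ideal.Quotient.eq_zero_iff_mem, pow_one, ← RingHom.mem_ker,
    MvPolynomial.ker_map, Ideal.mk_ker]

theorem rPow_noetherian [IsNoetherianRing R] (n : ℕ) : IsNoetherianRing (RPow R I n) := by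
  have hI : I.FG := IsNoetherian.noetherian I
  haveI := rPow_complete hI n
  haveI : IsNoetherianRing (RPow R I n ⧸ RingHom.ker (red I n)) :=
    isNoetherianRing_of_ringEquiv _ (RingHom.quotientKerEquivOfSurjective red_surjective).symm
  haveI : IsNoetherianRing (RPow R I n ⧸ I.map (algebraMap R (RPow R I n))) :=
    isNoetherianRing_of_ringEquiv _ (Ideal.quotEquivOfEq (ker_red hI))
  exact Groth.Calg1.isNoetherianRing_of_isAdicComplete (I.map (algebraMap R (RPow R I n))) (hI.map _)

theorem map_span_singleton {A : Type*} [CommRing A] (f : R →+* A) (t : R) :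
    (Ideal.span {t}).map f = Ideal.span {f t} := by
  rw [Ideal.map_span, Set.image_singleton]

/-- restricted power series as a model -/
noncomputable def rPowModel (t : R) (n : ℕ) : Model R t n (RPow R (Ideal.span {t}) n) where
  red₀ := red _ n
  surj := red_surjective
  ker := fun b hb => by
    have h1 : b ∈ RingHom.ker (red (Ideal.span {t}) n) := hb
    rw [ker_red ⟨{t}, by simp⟩] at h1
    exact Ideal.mem_span_singleton.1 ((map_span_singleton _ t).le h1)
  alg := fun r => by
    rw [IsScalarTower.algebraMap_apply R (MvPolynomial (Fin n) R) (RPow R (Ideal.span {t}) n), red_of,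
      MvPolynomial.algebraMap_eq, MvPolynomial.map_C]
  complete := by
    have := rPow_complete (I := Ideal.span {t}) ⟨{t}, by simp⟩ n
    exact (map_span_singleton (algebraMap R (RPow R (Ideal.span {t}) n)) t) ▸ this

/-- saturation with respect to `I` -/
def Saturated (I : Ideal R) {A : Type v} [CommRing A] {M : Type w} [AddCommGroup M] [Module A M] [Module R M]
    (N : Submodule A M) : Prop :=
  ∀ x, (∀ a ∈ I, a • x ∈ N) → x ∈ N

theorem Saturated.pow {A : Type v} [CommRing A] {M : Type w} [AddCommGroup M] [Module A M] [Module R M]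
    {N : Submodule A M} (h : Saturated I N) (k : ℕ) : ∀ x, (∀ a ∈ I ^ k, a • x ∈ N) → x ∈ N := by
  induction k with
  | zero => exact fun x hx => by simpa using hx 1 (by simp)
  | succ k ih =>
    refine fun x hx => h x fun a ha => ih _ fun b hb => ?_
    rw [smul_smul]
    exact hx _ (by rw [pow_succ]; exact Ideal.mul_mem_mul hb ha)

/-- saturated submodules of finite modules over algebras of finite type over an algebra topologically
of finite type are finitely generated -/
theorem fg_of_saturated {A : Type u} [CommRing A] [Algebra R A] (hR : IsBase R I) (hA : TopFiniteType R I A)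
    {B : Type v} [CommRing B] [Algebra R B] [Algebra A B] [IsScalarTower R A B] [Algebra.FiniteType A B]
    {M : Type w} [AddCommGroup M] [Module B M] [Module R M] [IsScalarTower R B M] [Module.Finite B M]
    (N : Submodule B M) (hN : Saturated I N) : N.FG := by
  classical
  obtain ⟨n, φ, hφ⟩ := hA
  obtain ⟨m, π, hπ⟩ := Algebra.FiniteType.iff_quotient_mvPolynomial''.mp ‹Algebra.FiniteType A B›
  let ψ : MvPolynomial (Fin m) (RPow R I n) →+* B := π.toRingHom.comp (MvPolynomial.map φ.toRingHom)
  have hψ : Function.Surjective ψ := hπ.comp (MvPolynomial.map_surjective _ hφ)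
  have hψR : ∀ r : R, ψ (MvPolynomial.C (algebraMap R _ r)) = algebraMap R B r := fun r => by
    simp [ψ, ← IsScalarTower.algebraMap_apply]
  letI : Module (MvPolynomial (Fin m) (RPow R I n)) M := Module.compHom M ψ
  letI : Algebra (MvPolynomial (Fin m) (RPow R I n)) B := ψ.toAlgebra
  haveI : IsScalarTower (MvPolynomial (Fin m) (RPow R I n)) B M := IsScalarTower.of_algebraMap_smul fun r x => rfl
  haveI : Module.Finite (MvPolynomial (Fin m) (RPow R I n)) B :=
    Module.Finite.of_surjective (Algebra.linearMap _ B) hψ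
  haveI : Module.Finite (MvPolynomial (Fin m) (RPow R I n)) M := Module.Finite.trans B M
  suffices h : (N.restrictScalars (MvPolynomial (Fin m) (RPow R I n))).FG by
    obtain ⟨s, hs⟩ := h
    refine ⟨s, le_antisymm (Submodule.span_le.2 fun x hx => ?_) fun x hx => ?_⟩
    · exact (Submodule.restrictScalars_mem _ N x).1 (hs ▸ Submodule.subset_span hx)
    · exact Submodule.span_le_restrictScalars (MvPolynomial (Fin m) (RPow R I n)) B _
        (hs.symm ▸ hx : x ∈ Submodule.span (MvPolynomial (Fin m) (RPow R I n)) (s : Set M))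
  obtain ⟨hc, ⟨hnoe, -⟩ | ⟨hdom, hpre, hdim, t, ht, rfl⟩⟩ := hR
  · haveI := hnoe
    haveI := rPow_noetherian (I := I) n
    haveI : IsNoetherian (MvPolynomial (Fin m) (RPow R I n)) M := isNoetherian_of_isNoetherianRing_of_finite _ M
    exact IsNoetherian.noetherian _
  · haveI := hdom
    haveI : ValuationRing R := { toPreValuationRing := hpre }
    haveI := hdim
    haveI := hc
    refine (rPowModel t n).fg_of_saturated ht m _ fun x hx => hN x fun a ha => ?_
    obtain ⟨s, rfl⟩ := Ideal.mem_span_singleton'.1 ha
    have h1 : ψ (MvPolynomial.C (algebraMap R _ t)) • x ∈ N := hx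
    rw [hψR, algebraMap_smul] at h1
    rw [mul_smul, ← algebraMap_smul B s]
    exact N.smul_mem _ h1

end Groth.TopFinType
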