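import Groth.Agent.TopFinType.Consequences
import Groth.Agent.S11546
import Mathlib.RingTheory.Flat.FaithfullyFlat.Basic
import Mathlib.RingTheory.RingHom.FiniteType
import Mathlib.RingTheory.Flat.Localization
import Mathlib.RingTheory.Localization.Away.Basic
import Mathlib.RingTheory.AdicCompletion.Algebra

/-! Coherence and flatness for algebras topologically of finite type. -/

set_option autoImplicit false

universe u v w

open AdicRing TensorProduct

namespace Groth.TopFinType

variable {R : Type u} [CommRing R] {I : Ideal R} {A : Type u} [CommRing A] [Algebra R A]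

theorem flat_completion_map (hR : IsBase R I) (hA : TopFiniteType R I A) (C : Type u) [CommRing C] [Algebra R C]
    [Algebra A C] [IsScalarTower R A C] [Algebra.FiniteType A C] :
    Module.Flat C (AdicCompletion (I.map (algebraMap R C)) C) :=
  flat_completion _ (fun _ N => hasAR hR hA N) fun N => hasAR hR hA N

theorem noPowTorsion_rPow (hR : IsBase R I) (n : ℕ) {x : RPow R I n} (hx : ∀ a ∈ I, a • x = 0) : x = 0 := by
  haveI := Groth.Agent.S11546.result R I hR n
  exact eq_zero_of_flat hR hx

/-- algebras topologically of finite presentation are coherent -/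
theorem coherent (hR : IsBase R I) (hA : TopFinitePresentation R I A) {J : Ideal A} (hJ : J.FG) :
    Module.FinitePresentation A J := by
  classical
  obtain ⟨n, φ, hφ, hK⟩ := hA
  obtain ⟨k, g, hg⟩ := Submodule.fg_iff_exists_fin_generating_family.1 hJ
  obtain ⟨l, kk, hkk⟩ := Submodule.fg_iff_exists_fin_generating_family.1 hK
  choose g' hg' using fun i => hφ (g i)
  haveI : Algebra.FiniteType (RPow R I n) (RPow R I n) := ⟨⟨∅, Subsingleton.elim _ _⟩⟩
  let H : (Fin k ⊕ Fin l → RPow R I n) →ₗ[RPow R I n] RPow R I n :=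
    Fintype.linearCombination (RPow R I n) (Sum.elim g' kk)
  have hL : (LinearMap.ker H).FG :=
    fg_of_saturated hR (topFiniteType_rPow I n) (B := RPow R I n) _ fun x hx => by
      refine LinearMap.mem_ker.2 (noPowTorsion_rPow hR n fun a ha => ?_)
      have h1 : H (a • x) = 0 := hx a ha
      rwa [LinearMap.map_smul_of_tower] at h1
  obtain ⟨s, hs⟩ := hL
  let p : (Fin k → A) →ₗ[A] J := (Fintype.linearCombination A g).codRestrict J fun x => by
    rw [Fintype.linearCombination_apply]
    exact Submodule.sum_mem _ fun i _ => J.smul_mem _ (hg ▸ Submodule.subset_span ⟨i, rfl⟩)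
  have hp : Function.Surjective p := fun y => by
    have hy : (y : A) ∈ Submodule.span A (Set.range g) := hg.symm ▸ y.2
    obtain ⟨c, hc⟩ := Submodule.mem_span_range_iff_exists_fun A |>.1 hy
    exact ⟨c, Subtype.ext (by simpa [p, Fintype.linearCombination_apply] using hc)⟩
  refine Module.finitePresentation_of_surjective p hp ?_
  let f : (Fin k ⊕ Fin l → RPow R I n) → (Fin k → A) := fun v i => φ (v (Sum.inl i))
  have hH : ∀ v, φ (H v) = ∑ i, f v i * g i := fun v => by
    simp only [H, Fintype.linearCombination_apply, map_sum, Fintype.sum_sum_type, Sum.elim_inl, Sum.elim_inr,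
      smul_eq_mul, map_mul, map_add, hg', f]
    have : ∀ j, φ (kk j) = 0 := fun j =>
      (hkk ▸ Submodule.subset_span ⟨j, rfl⟩ : kk j ∈ RingHom.ker φ.toRingHom)
    simp [this]
  refine ⟨s.image f, le_antisymm (Submodule.span_le.2 ?_) fun x hx => ?_⟩
  · intro x hx
    simp only [Finset.coe_image, Set.mem_image, Finset.mem_coe] at hx
    obtain ⟨v, hv, rfl⟩ := hx
    refine LinearMap.mem_ker.2 (Subtype.ext ?_)
    have hv' : H v = 0 := LinearMap.mem_ker.1 (hs.le (Submodule.subset_span hv))
    simpa [p, Fintype.linearCombination_apply, hv'] using (hH v).symm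
  choose y hy using fun i => hφ (x i)
  have h1 : ∑ i, y i * g' i ∈ RingHom.ker φ.toRingHom := by
    rw [RingHom.mem_ker]
    show φ _ = 0
    have h0 := congrArg Subtype.val (LinearMap.mem_ker.1 hx)
    simpa [p, Fintype.linearCombination_apply, hy, hg', map_sum] using h0
  rw [← hkk, Submodule.mem_span_range_iff_exists_fun] at h1
  obtain ⟨z, hz⟩ := h1
  have hv : Sum.elim y (fun j => -z j) ∈ Submodule.span (RPow R I n) (s : Set (Fin k ⊕ Fin l → RPow R I n)) := by
    rw [hs, LinearMap.mem_ker]
    simp [H, Fintype.linearCombination_apply, ← hz]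
  have key : ∀ v ∈ Submodule.span (RPow R I n) (s : Set (Fin k ⊕ Fin l → RPow R I n)),
      f v ∈ Submodule.span A ((s.image f : Finset _) : Set (Fin k → A)) := fun v hv => by
    induction hv using Submodule.span_induction with
    | mem v hv => exact Submodule.subset_span (Finset.mem_image_of_mem f hv)
    | zero => convert Submodule.zero_mem _; ext i; simp [f]
    | add v w _ _ hv hw => convert Submodule.add_mem _ hv hw using 1; ext i; simp [f]
    | smul b v _ hv => convert Submodule.smul_mem _ (φ b) hv using 1; ext i; simp [f]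
  have := key _ hv
  rwa [show f (Sum.elim y fun j => -z j) = x from funext hy] at this

theorem rTensor_injective_of_flat {A' : Type u} [CommRing A'] [Algebra A A'] {M : Type u} [AddCommGroup M]
    [Module A M] [Module.Flat A' (A' ⊗[A] M)] {P Q : Type u} [AddCommGroup P] [AddCommGroup Q] [Module A P]
    [Module A Q] [Module A' P] [Module A' Q] [IsScalarTower A A' P] [IsScalarTower A A' Q]
    (f : P →ₗ[A'] Q) (hf : Function.Injective f) :
    Function.Injective ((f.restrictScalars A).rTensor M) := by
  have h := Module.Flat.rTensor_preserves_injective_linearMap (M := A' ⊗[A] M) f hf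
  let eP := AlgebraTensorModule.cancelBaseChange A A' A' P M
  let eQ := AlgebraTensorModule.cancelBaseChange A A' A' Q M
  have : ∀ z, (f.restrictScalars A).rTensor M z = eQ (f.rTensor (A' ⊗[A] M) (eP.symm z)) := fun z => by
    induction z using TensorProduct.induction_on with
    | zero => simp
    | tmul x m => simp [eP, eQ]
    | add x y hx hy => simp only [map_add, hx, hy]
  intro x y hxy
  rw [this, this] at hxy
  exact eP.symm.injective (h (eQ.injective hxy))

section

variable {B : Type u} [CommRing B] [Algebra R B] [Algebra A B] [IsScalarTower R A B]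
  {M : Type u} [AddCommGroup M] [Module B M] [Module A M] [IsScalarTower A B M] [Module.Finite B M]

/-- flatness can be checked on all truncations -/
theorem flat_of_trunc (hR : IsBase R I) (hA : TopFiniteType R I A) (hB : TopFiniteType R I B)
    (h : ∀ n : ℕ, Module.Flat (trunc A I n) ((trunc A I n) ⊗[A] M)) : Module.Flat A M := by
  classical
  haveI : Algebra.FiniteType A A := ⟨⟨∅, Subsingleton.elim _ _⟩⟩
  refine Module.Flat.iff_lTensor_injective.2 fun J hJ => (injective_iff_map_eq_zero _).2 fun z hz => ?_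
  obtain ⟨k₀, g, hg⟩ := Submodule.fg_iff_exists_fin_generating_family.1 hJ
  let gJ : Fin k₀ → J := fun i => ⟨g i, hg ▸ Submodule.subset_span ⟨i, rfl⟩⟩
  haveI : Module.Finite B (M ⊗[A] J) := by
    let F : (Fin k₀ → M) →ₗ[B] M ⊗[A] J :=
      ∑ i, ((AlgebraTensorModule.mk A B M J).flip (gJ i)) ∘ₗ LinearMap.proj i
    refine Module.Finite.of_surjective F fun z => ?_
    induction z using TensorProduct.induction_on with
    | zero => exact ⟨0, map_zero F⟩
    | add x y hx hy =>
      obtain ⟨a, rfl⟩ := hx
      obtain ⟨b, rfl⟩ := hy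
      exact ⟨a + b, map_add F a b⟩
    | tmul x j =>
      obtain ⟨c, hc⟩ := Submodule.mem_span_range_iff_exists_fun A |>.1 (hg.symm ▸ j.2 : (j : A) ∈ Submodule.span A (Set.range g))
      refine ⟨fun i => c i • x, ?_⟩
      have hj : j = ∑ i, c i • gJ i := Subtype.ext (by simp [gJ, ← hc])
      simp [F, hj, TensorProduct.tmul_sum, TensorProduct.smul_tmul']
  haveI := isHausdorff_map (M := M ⊗[A] J) hR hB
  refine IsHausdorff.haus' (I := I.map (algebraMap R B)) z fun k => SModEq.zero.2 ?_
  obtain ⟨N₀, hN₀, -, n₀, hAR⟩ := hasAR hR hA (B := A) (M := A) J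
  set q := (I ^ (k + n₀ + 1)).map (algebraMap R A) with hq
  haveI := h (k + n₀)
  let J' : Ideal (trunc A I (k + n₀)) := J.map (Ideal.Quotient.mk q)
  let hmap : J →ₗ[A] J' :=
    { toFun := fun j => ⟨Ideal.Quotient.mk q j, Ideal.mem_map_of_mem _ j.2⟩
      map_add' := fun a b => rfl
      map_smul' := fun a b => Subtype.ext (map_mul (Ideal.Quotient.mk q) a b) }
  have hsurj : Function.Surjective hmap := fun y => by
    obtain ⟨x, hx, hxy⟩ := (Ideal.mem_map_iff_of_surjective _ Ideal.Quotient.mk_surjective).1 y.2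
    exact ⟨⟨x, hx⟩, Subtype.ext hxy⟩
  have h0 : hmap.lTensor M z = 0 := by
    apply (LinearMap.lTensor_inj_iff_rTensor_inj M _).2
      (rTensor_injective_of_flat (A := A) (M := M) J'.subtype Subtype.val_injective)
    rw [map_zero, ← LinearMap.lTensor_comp_apply]
    rw [show (J'.subtype.restrictScalars A).comp hmap =
      (Algebra.linearMap A (trunc A I (k + n₀))).comp J.subtype from LinearMap.ext fun j => rfl,
      LinearMap.lTensor_comp_apply, hz, map_zero]
  obtain ⟨w, rfl⟩ := (lTensor_exact M (LinearMap.exact_subtype_ker_map hmap) hsurj z).1 h0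
  clear hz h0
  induction w using TensorProduct.induction_on with
  | zero => simp
  | add x y hx hy => rw [map_add]; exact Submodule.add_mem _ hx hy
  | tmul m j =>
    obtain ⟨⟨j, hjJ⟩, hj⟩ := j
    have hjq : j ∈ q := Ideal.Quotient.eq_zero_iff_mem.1 (congrArg Subtype.val hj)
    have hj' : j ∈ (I.map (algebraMap R A)) ^ k • N₀ := hAR k ⟨by
      rw [smul_eq_mul, Ideal.mul_top, ← Ideal.map_pow]
      exact Ideal.map_mono (Ideal.pow_le_pow_right (Nat.le_succ _)) hjq, hjJ⟩
    have hpow : ((I.map (algebraMap R A)) ^ k).map (algebraMap A B) = (I.map (algebraMap R B)) ^ k := by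
      rw [Ideal.map_pow, Ideal.map_map, ← IsScalarTower.algebraMap_eq]
    have key : ∀ x ∈ (I.map (algebraMap R A)) ^ k • N₀, ∃ hxJ : x ∈ J, m ⊗ₜ[A] (⟨x, hxJ⟩ : J) ∈
        ((I.map (algebraMap R B)) ^ k • ⊤ : Submodule B (M ⊗[A] J)) := fun x hx => by
      refine Submodule.smul_induction_on hx (fun a ha y hy => ⟨J.smul_mem a (hN₀ hy), ?_⟩)
        (fun x y hx hy => ⟨J.add_mem hx.1 hy.1, ?_⟩)
      · rw [show (⟨a • y, J.smul_mem a (hN₀ hy)⟩ : J) = a • ⟨y, hN₀ hy⟩ from rfl, TensorProduct.tmul_smul,
          ← IsScalarTower.algebraMap_smul B a]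
        exact Submodule.smul_mem_smul (hpow.le (Ideal.mem_map_of_mem _ ha)) Submodule.mem_top
      · rw [show (⟨x + y, J.add_mem hx.1 hy.1⟩ : J) = ⟨x, hx.1⟩ + ⟨y, hy.1⟩ from rfl, TensorProduct.tmul_add]
        exact Submodule.add_mem _ hx.2 hy.2
    rw [LinearMap.lTensor_tmul, Submodule.subtype_apply]
    exact (key j hj').2

end

/-- complete localizations are flat -/
theorem flat_cLoc (hR : IsBase R I) (hA : TopFiniteType R I A) (f : A) : Module.Flat A (CLoc I f) := by
  haveI : Algebra.FiniteType A A := ⟨⟨∅, Subsingleton.elim _ _⟩⟩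
  haveI : Algebra.FiniteType A (Localization.Away f) :=
    IsLocalization.finiteType_of_monoid_fg (Submonoid.powers f) _
  haveI : Module.Flat (Localization.Away f) (CLoc I f) := flat_completion_map hR hA _
  haveI : Module.Flat A (Localization.Away f) := IsLocalization.flat _ (Submonoid.powers f)
  exact Module.Flat.trans A (Localization.Away f) _

theorem le_of_isMaximal (hR : IsBase R I) (hA : TopFiniteType R I A) {m : Ideal A} (hm : m.IsMaximal) :
    I.map (algebraMap R A) ≤ m :=
  (map_le_jacobson hR hA).trans (sInf_le ⟨bot_le, hm⟩)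

theorem faithfullyFlat_cLoc (hR : IsBase R I) (hA : TopFiniteType R I A) {r : ℕ} (f : Fin r → A)
    (hf : Ideal.span (Set.range f) = ⊤) : Module.FaithfullyFlat A (∀ i, CLoc I (f i)) := by
  haveI := fun i => flat_cLoc hR hA (f i)
  haveI : Module.Flat A (∀ i, CLoc I (f i)) :=
    Module.Flat.of_linearEquiv (DFinsupp.linearEquivFunOnFintype (R := A)).symm
  refine ⟨fun m hm htop => ?_⟩
  obtain ⟨i, hi⟩ : ∃ i, f i ∉ m := by
    by_contra! h
    exact hm.ne_top (top_le_iff.1 (hf ▸ Ideal.span_le.2 (by rintro _ ⟨i, rfl⟩; exact h i)))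
  have h1 := congrArg (Submodule.map (LinearMap.proj i : (∀ j, CLoc I (f j)) →ₗ[A] CLoc I (f i))) htop
  rw [Submodule.map_smul'', Submodule.map_top, LinearMap.range_eq_top.2 (LinearMap.proj_surjective i),
    Ideal.smul_top_eq_map, Submodule.restrictScalars_eq_top_iff] at h1
  have h2 := congrArg (Ideal.map (AdicCompletion.evalₐ (I.map (algebraMap R (Localization.Away (f i)))) 1).toRingHom) h1
  rw [Ideal.map_map, Ideal.map_top] at h2
  have h3 : m.map (algebraMap A (Localization.Away (f i))) ≠ ⊤ := by
    rw [IsLocalization.map_algebraMap_ne_top_iff_disjoint (Submonoid.powers (f i)), Set.disjoint_left]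
    rintro _ ⟨j, rfl⟩ hj
    exact hi (hm.isPrime.mem_of_pow_mem j hj)
  apply h3
  rw [show (AdicCompletion.evalₐ (I.map (algebraMap R (Localization.Away (f i)))) 1).toRingHom.comp
      (algebraMap A (CLoc I (f i))) = (Ideal.Quotient.mk _).comp (algebraMap A (Localization.Away (f i))) from
    RingHom.ext fun a => Groth.AdicLinTop.CompletionQuot.evalₐ_algebraMap _ 1 _, ← Ideal.map_map] at h2
  have h4 := congrArg (Ideal.comap (Ideal.Quotient.mk _)) h2
  rw [Ideal.comap_map_of_surjective _ Ideal.Quotient.mk_surjective, Ideal.comap_top, ← RingHom.ker_eq_comap_bot,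
    Ideal.mk_ker, pow_one] at h4
  refine top_le_iff.1 (h4.symm.le.trans (sup_le le_rfl ?_))
  rw [IsScalarTower.algebraMap_eq R A (Localization.Away (f i)), ← Ideal.map_map]
  exact Ideal.map_mono (le_of_isMaximal hR hA hm)

end Groth.TopFinType
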