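import Groth.Agent.TopFinType.Flatness
import Groth.Agent.AdicLinTop.ValIntegral
import Groth.Agent.S2293
import Mathlib.RingTheory.Jacobson.Artinian
import Mathlib.RingTheory.KrullDimension.LocalRing
import Mathlib.RingTheory.Ideal.GoingUp

/-! Rig points: one-dimensional admissible domains over a complete valuation ring of height one. -/

set_option autoImplicit false

universe u v

open AdicRing

namespace Groth.TopFinType

section General

variable {R : Type u} [CommRing R] {I : Ideal R}

theorem exists_liftₐ {P : Type u} [CommRing P] [Algebra R P] (J : Ideal P) {B : Type u} [CommRing B] [Algebra R B]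
    (K : Ideal B) [IsAdicComplete K B] (ψ : P →ₐ[R] B) (h : J.map ψ.toRingHom ≤ K) :
    ∃ F : AdicCompletion J P →ₐ[R] B, ∀ p, F (algebraMap P (AdicCompletion J P) p) = ψ p := by
  obtain ⟨F, hF⟩ := Groth.AdicLinTop.CompletionQuot.exists_lift J K ψ.toRingHom h
  refine ⟨AlgHom.mk F fun r => ?_, RingHom.congr_fun hF⟩
  show F (algebraMap R (AdicCompletion J P) r) = _
  rw [IsScalarTower.algebraMap_apply R P (AdicCompletion J P)]
  exact (RingHom.congr_fun hF _).trans (ψ.commutes r)

theorem exists_eval {B : Type u} [CommRing B] [Algebra R B] [IsAdicComplete (I.map (algebraMap R B)) B] {n : ℕ}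
    (b : Fin n → B) : ∃ F : RPow R I n →ₐ[R] B,
      ∀ p, F (algebraMap (MvPolynomial (Fin n) R) (RPow R I n) p) = MvPolynomial.aeval b p :=
  exists_liftₐ _ (I.map (algebraMap R B)) (MvPolynomial.aeval b) (by
    rw [Ideal.map_map]
    exact le_of_eq (congrArg (I.map ·) (RingHom.ext fun r => MvPolynomial.aeval_C b r)))

theorem topFiniteType_self [IsAdicComplete I R] : TopFiniteType R I R := by
  haveI : IsAdicComplete (I.map (algebraMap R R)) R := by rwa [Algebra.algebraMap_self, Ideal.map_id]
  obtain ⟨F, -⟩ := exists_eval (I := I) (B := R) (Fin.elim0 : Fin 0 → R)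
  exact ⟨0, F, fun r => ⟨algebraMap R _ r, by simp⟩⟩

theorem isAdicComplete_finite (hR : IsBase R I) (M : Type v) [AddCommGroup M] [Module R M] [Module.Finite R M] :
    IsAdicComplete I M := by
  haveI := hR.1
  exact isAdicComplete hR topFiniteType_self

/-- the special fibre is of finite type -/
theorem finiteType_quotient (hI : I.FG) {B : Type u} [CommRing B] [Algebra R B] (hB : TopFiniteType R I B) :
    Algebra.FiniteType R (B ⧸ I.map (algebraMap R B)) := by
  obtain ⟨n, φ, hφ⟩ := hB
  let ψ : MvPolynomial (Fin n) R →ₐ[R] B ⧸ I.map (algebraMap R B) :=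
    ((Ideal.Quotient.mkₐ R _).comp φ).comp (IsScalarTower.toAlgHom R (MvPolynomial (Fin n) R) (RPow R I n))
  refine Algebra.FiniteType.of_surjective ψ fun y => ?_
  obtain ⟨b, rfl⟩ := Ideal.Quotient.mk_surjective y
  obtain ⟨x, rfl⟩ := hφ b
  obtain ⟨p, hp⟩ := Groth.AdicLinTop.CompletionQuot.exists_sub_mem _ (hI.map _) 1 x
  refine ⟨p, Ideal.Quotient.eq.2 ?_⟩
  rw [pow_one, ← map_algebraMap_rPow] at hp
  have h1 := Ideal.mem_map_of_mem φ.toRingHom hp
  rw [Ideal.map_map, show φ.toRingHom.comp (algebraMap R (RPow R I n)) = algebraMap R B from RingHom.ext φ.commutes,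
    map_sub] at h1
  rw [← neg_sub]
  exact neg_mem h1

theorem isAdicComplete_map_self (hR : IsBase R I) {B : Type u} [CommRing B] [Algebra R B]
    (hB : TopFiniteType R I B) : IsAdicComplete (I.map (algebraMap R B)) B :=
  (IsAdicComplete.map_algebraMap_iff (S := B) (I := I) B).2 (isAdicComplete hR hB)

/-- finite extensions of algebras topologically of finite type are topologically of finite type -/
theorem topFiniteType_of_finite (hR : IsBase R I) {A : Type u} [CommRing A] [Algebra R A]
    (hA : TopFiniteType R I A) (B : Type u) [CommRing B] [Algebra R B] [Algebra A B] [IsScalarTower R A B]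
    [Module.Finite A B] : TopFiniteType R I B := by
  haveI : IsAdicComplete (I.map (algebraMap R B)) B :=
    (IsAdicComplete.map_algebraMap_iff (S := B) (I := I) B).2 (isAdicComplete hR hA)
  haveI h0 : Algebra.FiniteType R (B ⧸ I.map (algebraMap R B)) := by
    haveI := finiteType_quotient (fg_of_isBase hR) hA
    letI : Algebra (A ⧸ I.map (algebraMap R A)) (B ⧸ I.map (algebraMap R B)) :=
      (Ideal.quotientMap _ (algebraMap A B) (Ideal.map_le_iff_le_comap.1 (by
        rw [Ideal.map_map, ← IsScalarTower.algebraMap_eq]))).toAlgebra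
    haveI : IsScalarTower R (A ⧸ I.map (algebraMap R A)) (B ⧸ I.map (algebraMap R B)) :=
      IsScalarTower.of_algebraMap_eq fun r =>
        congrArg (Ideal.Quotient.mk _) (IsScalarTower.algebraMap_apply R A B r)
    haveI : Algebra.FiniteType (A ⧸ I.map (algebraMap R A)) (B ⧸ I.map (algebraMap R B)) := by
      haveI : IsScalarTower A (A ⧸ I.map (algebraMap R A)) (B ⧸ I.map (algebraMap R B)) :=
        IsScalarTower.of_algebraMap_eq fun a => rfl
      exact Algebra.FiniteType.of_restrictScalars_finiteType A _ _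
    exact Algebra.FiniteType.trans (S := A ⧸ I.map (algebraMap R A)) inferInstance inferInstance
  letI : Algebra (R ⧸ I) (B ⧸ I.map (algebraMap R B)) :=
    (Ideal.quotientMap (I.map (algebraMap R B)) (algebraMap R B) Ideal.le_comap_map).toAlgebra
  haveI : IsScalarTower R (R ⧸ I) (B ⧸ I.map (algebraMap R B)) := IsScalarTower.of_algebraMap_eq fun r => rfl
  exact Groth.Agent.S2293.result R I (fg_of_isBase hR) B (Algebra.FiniteType.of_restrictScalars_finiteType R _ _)

end General

variable {R : Type u} [CommRing R] [IsDomain R] [ValuationRing R] [Ring.KrullDimLE 1 R]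
  {t : R} [IsAdicComplete (Ideal.span {t}) R]

omit [Ring.KrullDimLE 1 R] [IsAdicComplete (Ideal.span {t}) R] in
theorem isBase (ht : t ≠ 0) [hc : IsAdicComplete (Ideal.span {t}) R] [hd : Ring.KrullDimLE 1 R] :
    IsBase R (Ideal.span {t}) :=
  ⟨hc, Or.inr ⟨inferInstance, inferInstance, hd, t, ht, rfl⟩⟩

omit [IsDomain R] [ValuationRing R] [Ring.KrullDimLE 1 R] [IsAdicComplete (Ideal.span {t}) R] in
theorem tau_ne_zero {B : Type v} [CommRing B] [Nontrivial B] [Algebra R B]
    (hT : NoPowTorsion (Ideal.span {t}) B) : algebraMap R B t ≠ 0 := fun h =>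
  one_ne_zero (hT 1 1 fun a ha => by
    rw [pow_one] at ha
    obtain ⟨s, rfl⟩ := Ideal.mem_span_singleton'.1 ha
    rw [Algebra.smul_def, map_mul, h, mul_zero, zero_mul])

include t in
theorem algebraMap_injective {B : Type v} [CommRing B] [IsDomain B] [Algebra R B] (hτ : algebraMap R B t ≠ 0) :
    Function.Injective (algebraMap R B) := by
  refine (injective_iff_map_eq_zero _).2 fun r hr => by_contra fun h0 => ?_
  obtain ⟨k, s, hk⟩ := exists_pow_dvd (t := t) h0
  exact pow_ne_zero k hτ (by rw [← map_pow, hk, map_mul, hr, zero_mul])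

theorem noPowTorsion_of_domain {B : Type v} [CommRing B] [IsDomain B] [Algebra R B] (hτ : algebraMap R B t ≠ 0) :
    NoPowTorsion (Ideal.span {t}) B := fun x n hx => by
  have := hx (t ^ n) (Ideal.pow_mem_pow (Ideal.mem_span_singleton_self t) n)
  rw [Algebra.smul_def, map_pow, mul_eq_zero] at this
  exact this.resolve_left (pow_ne_zero n hτ)

/-- one-dimensional domains topologically of finite type are finite -/
theorem finite_of_krullDimLE (ht : t ≠ 0) {B : Type u} [CommRing B] [IsDomain B] [Algebra R B]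
    (hB : TopFiniteType R (Ideal.span {t}) B) (hτ : algebraMap R B t ≠ 0) [Ring.KrullDimLE 1 B] :
    Module.Finite R B := by
  set I := Ideal.span {t}
  have hR : IsBase R I := isBase ht
  set TB := I.map (algebraMap R B)
  have hft : Algebra.FiniteType R (B ⧸ TB) := finiteType_quotient (fg_of_isBase hR) hB
  set J := TB.radical with hJdef
  haveI : Algebra.FiniteType R (B ⧸ J) := Algebra.FiniteType.of_surjective
    (Ideal.Quotient.factorₐ R (show TB ≤ J from Ideal.le_radical)) (Ideal.Quotient.factor_surjective (show TB ≤ J from Ideal.le_radical))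
  let M := IsLocalRing.maximalIdeal R
  have hM : ∀ r ∈ M, algebraMap R B r ∈ J := fun r hr => by
    obtain ⟨k, hk⟩ := exists_dvd_pow_nonunit ht ((IsLocalRing.mem_maximalIdeal r).1 hr)
    exact ⟨k, by rw [← map_pow]; exact Ideal.mem_map_of_mem _ (Ideal.mem_span_singleton.2 hk)⟩
  letI : Field (R ⧸ M) := Ideal.Quotient.field M
  letI : Algebra (R ⧸ M) (B ⧸ J) := (Ideal.quotientMap J (algebraMap R B) hM).toAlgebra
  haveI : IsScalarTower R (R ⧸ M) (B ⧸ J) := IsScalarTower.of_algebraMap_eq fun r => rfl
  haveI : Algebra.FiniteType (R ⧸ M) (B ⧸ J) := Algebra.FiniteType.of_restrictScalars_finiteType R _ _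
  haveI : Ring.KrullDimLE 0 (B ⧸ J) := Ring.KrullDimLE.mk₀ fun P hP => by
    have hτP : algebraMap R B t ∈ P.comap (Ideal.Quotient.mk J) := by
      rw [Ideal.mem_comap, Ideal.Quotient.eq_zero_iff_mem.2 (Ideal.le_radical
        (Ideal.mem_map_of_mem _ (Ideal.mem_span_singleton_self t)))]
      exact P.zero_mem
    haveI : (P.comap (Ideal.Quotient.mk J)).IsPrime := hP.comap _
    haveI := Ideal.isMaximal_of_isPrime_of_ne_bot (P.comap (Ideal.Quotient.mk J))
      fun h => hτ (by rwa [h, Ideal.mem_bot] at hτP)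
    rw [← Ideal.map_comap_of_surjective _ Ideal.Quotient.mk_surjective P]
    exact Ideal.IsMaximal.map_of_surjective_of_ker_le Ideal.Quotient.mk_surjective (Ideal.ker_le_comap _)
  haveI : Module.Finite (R ⧸ M) (B ⧸ J) := (Module.finite_iff_krullDimLE_zero (R ⧸ M) (B ⧸ J)).2 inferInstance
  haveI : Module.Finite R (R ⧸ M) := inferInstance
  haveI : Module.Finite R (B ⧸ J) := Module.Finite.trans (R ⧸ M) _
  haveI : Algebra.IsIntegral R (B ⧸ TB) := ⟨fun y => by
    obtain ⟨b, rfl⟩ := Ideal.Quotient.mk_surjective y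
    obtain ⟨p, hp, hpb⟩ := IsIntegral.of_finite R (Ideal.Quotient.mk J b)
    rw [← Polynomial.aeval_def, ← Ideal.Quotient.mkₐ_eq_mk R J, Polynomial.aeval_algHom_apply,
      Ideal.Quotient.mkₐ_eq_mk, Ideal.Quotient.eq_zero_iff_mem] at hpb
    obtain ⟨N, hN⟩ := hpb
    refine ⟨p ^ N, hp.pow N, ?_⟩
    rw [← Polynomial.aeval_def, ← Ideal.Quotient.mkₐ_eq_mk R TB, Polynomial.aeval_algHom_apply,
      Ideal.Quotient.mkₐ_eq_mk, Ideal.Quotient.eq_zero_iff_mem, map_pow]
    exact hN⟩
  haveI : Module.Finite R (B ⧸ TB) := Algebra.IsIntegral.finite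
  haveI : IsHausdorff I B := (isAdicComplete hR hB).toIsHausdorff
  haveI := hR.1
  refine Groth.Calg1.module_finite_of_isHausdorff I B ?_
  exact Module.Finite.equiv ((Submodule.Quotient.restrictScalarsEquiv R TB).symm.trans
    (Submodule.quotEquivOfEq _ _ (Ideal.smul_top_eq_map I).symm))

omit [IsAdicComplete (Ideal.span {t}) R] in
theorem ringKrullDim_eq_one (ht : t ≠ 0) (htm : ¬IsUnit t) {T : Type v} [CommRing T] [IsDomain T] [Algebra R T]
    [Algebra.IsIntegral R T] (hinj : Function.Injective (algebraMap R T)) : ringKrullDim T = 1 := by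
  haveI : Ring.KrullDimLE 1 T := Ring.KrullDimLE.mk₁' fun P hP hPp => by
    haveI := hPp
    refine Ideal.isMaximal_of_isIntegral_of_isMaximal_comap P
      ((hPp.comap (algebraMap R T)).isMaximal_of_ne_bot fun h => hP (Ideal.eq_bot_of_comap_eq_bot h))
  have hnf : ¬ IsField T := fun h => by
    have hRf : IsField R := isField_of_isIntegral_of_isField hinj h
    obtain ⟨s, hs⟩ := hRf.mul_inv_cancel ht
    exact htm (IsUnit.of_mul_eq_one s hs)
  have h0 : ¬ ringKrullDim T ≤ 0 := fun h => by
    haveI : Ring.KrullDimLE 0 T := Ring.krullDimLE_iff.2 h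
    exact hnf Ring.KrullDimLE.isField_of_isDomain
  exact le_antisymm (Ring.krullDimLE_iff.1 inferInstance) (Order.succ_le_of_lt (lt_of_not_ge h0))

theorem not_isUnit_t : ¬ IsUnit t := (IsLocalRing.mem_maximalIdeal t).1 mem_maximal_of_complete

include t in
/-- a finite domain over `R` containing `R` is local of dimension one -/
theorem rigPoint_of_finite (ht : t ≠ 0) {T : Type v} [CommRing T] [IsDomain T] [Algebra R T] [Module.Finite R T]
    (hinj : Function.Injective (algebraMap R T)) : IsLocalRing T ∧ ringKrullDim T = 1 := by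
  haveI : Algebra.IsIntegral R T := Algebra.IsIntegral.of_finite R T
  exact ⟨Groth.AdicLinTop.ValIntegral.isLocalRing_of_finite (t := t) ht T hinj,
    ringKrullDim_eq_one ht not_isUnit_t hinj⟩

include t in
theorem valuationRing_integralClosure (ht : t ≠ 0) {B : Type u} [CommRing B] [IsDomain B] [Algebra R B]
    [Algebra.IsIntegral R B] (hinj : Function.Injective (algebraMap R B)) :
    ValuationRing (integralClosure B (FractionRing B)) := by
  let L := FractionRing B
  have hinjL : Function.Injective (algebraMap R L) := by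
    rw [IsScalarTower.algebraMap_eq R B L]
    exact (IsFractionRing.injective B L).comp hinj
  have key : ∀ x : L, x ∈ integralClosure B L ∨ x⁻¹ ∈ integralClosure B L := fun x => by
    obtain ⟨a, b, hb, rfl⟩ := IsFractionRing.div_surjective B x
    have halg : IsAlgebraic R (algebraMap B L a / algebraMap B L b) := by
      have h := fun c : B => ((Algebra.IsIntegral.isIntegral (R := R) c).map (IsScalarTower.toAlgHom R B L)).isAlgebraic
      rw [div_eq_mul_inv]
      exact (h a).mul (h b).inv
    exact (Groth.AdicLinTop.ValIntegral.isIntegral_or_isIntegral_inv (t := t) ht hinjL halg).imp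
      (fun h => h.tower_top) (fun h => h.tower_top)
  refine ValuationRing.iff_isInteger_or_isInteger _ L |>.2 fun x => ?_
  exact (key x).imp (fun h => ⟨⟨x, h⟩, rfl⟩) (fun h => ⟨⟨x⁻¹, h⟩, rfl⟩)

end Groth.TopFinType

namespace Groth.TopFinType

variable {R : Type u} [CommRing R] [IsDomain R] [ValuationRing R] [Ring.KrullDimLE 1 R]
  {t : R} [IsAdicComplete (Ideal.span {t}) R]

omit [IsDomain R] [ValuationRing R] [Ring.KrullDimLE 1 R] [IsAdicComplete (Ideal.span {t}) R] in
theorem rig_tau_ne_zero {B : Type u} [CommRing B] [Nontrivial B] [Algebra R B]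
    (hB : Admissible R (Ideal.span {t}) B) : algebraMap R B t ≠ 0 := tau_ne_zero hB.2

theorem rig_finite (ht : t ≠ 0) {B : Type u} [CommRing B] [IsDomain B] [Algebra R B]
    (hB : Admissible R (Ideal.span {t}) B) (hdim : ringKrullDim B = 1) : Module.Finite R B := by
  haveI : Ring.KrullDimLE 1 B := Ring.krullDimLE_iff.2 hdim.le
  exact finite_of_krullDimLE ht (topFiniteType_of_topFinitePresentation hB.1) (rig_tau_ne_zero hB)

omit [IsDomain R] [ValuationRing R] [Ring.KrullDimLE 1 R] [IsAdicComplete (Ideal.span {t}) R] in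
/-- inverses of integral units are polynomials in the element -/
theorem inv_mem_adjoin {S : Type v} [CommRing S] [Algebra R S] {f y : S} (hfy : f * y = 1) (hy : IsIntegral R y) :
    y ∈ Algebra.adjoin R {f} := by
  obtain ⟨p, hp, hpy⟩ := hy
  rw [← Polynomial.aeval_def, Polynomial.aeval_eq_sum_range, Finset.sum_range_succ, hp.coeff_natDegree,
    one_smul] at hpy
  rcases Nat.eq_zero_or_pos p.natDegree with h0 | h0
  · rw [h0, Finset.sum_range_zero, pow_zero, zero_add] at hpy
    have : y = 0 := by simpa [hpy] using (mul_one y).symm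
    rw [this]; exact zero_mem _
  obtain ⟨N, hN⟩ : ∃ N, p.natDegree = N + 1 := ⟨_, (Nat.sub_add_cancel h0).symm⟩
  rw [hN] at hpy
  have e : y = -∑ i ∈ Finset.range (N + 1), p.coeff i • f ^ (N - i) := by
    have h1 := congrArg (f ^ N * ·) hpy
    simp only [mul_add, Finset.mul_sum, mul_zero] at h1
    have h2 : f ^ N * y ^ (N + 1) = y := by rw [pow_succ, ← mul_assoc, ← mul_pow, hfy, one_pow, one_mul]
    rw [h2] at h1
    rw [eq_neg_iff_add_eq_zero, add_comm]
    rw [← h1]
    congr 1
    refine Finset.sum_congr rfl fun i hi => ?_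
    rw [mul_smul_comm]
    congr 1
    have hi' : i ≤ N := Nat.lt_succ_iff.1 (Finset.mem_range.1 hi)
    rw [← Nat.sub_add_cancel hi', pow_add, mul_assoc, ← mul_pow, hfy, one_pow, mul_one, Nat.add_sub_cancel]
  rw [e]
  exact neg_mem (Subalgebra.sum_mem _ fun i _ =>
    Subalgebra.smul_mem _ (Subalgebra.pow_mem _ (Algebra.self_mem_adjoin_singleton R f) _) _)

/-- the composite of `A → A⟨1/f⟩` with a surjection onto a finite algebra is surjective -/
theorem surjective_comp_cLoc {R : Type u} [CommRing R] {I : Ideal R} (hfg : I.FG)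
    (hjac : I ≤ (⊥ : Ideal R).jacobson) {A : Type u} [CommRing A] [Algebra R A] (f : A) {B : Type u} [CommRing B]
    [Algebra R B] [Module.Finite R B] (u : CLoc I f →ₐ[R] B) (hu : Function.Surjective u) :
    Function.Surjective (u.toRingHom.comp (algebraMap A (CLoc I f))) := by
  let ρ : A →ₐ[R] B := u.comp (IsScalarTower.toAlgHom R A (CLoc I f))
  let σ : Localization.Away f →+* B := u.toRingHom.comp (algebraMap _ (CLoc I f))
  have hσ : ∀ a, σ (algebraMap A _ a) = ρ a := fun a => by
    show u _ = u _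
    rw [← IsScalarTower.algebraMap_apply]
    rfl
  have hS : ∀ z, σ z ∈ ρ.range := fun z => by
    obtain ⟨⟨a, ⟨_, k, rfl⟩⟩, rfl⟩ := IsLocalization.mk'_surjective (Submonoid.powers f) z
    have hinv : ρ f * σ (IsLocalization.Away.invSelf f) = 1 := by
      rw [← hσ, ← map_mul, IsLocalization.Away.mul_invSelf, map_one]
    have hy : σ (IsLocalization.Away.invSelf f) ∈ ρ.range :=
      (Algebra.adjoin_le (Set.singleton_subset_iff.2 ⟨f, rfl⟩) : Algebra.adjoin R {ρ f} ≤ ρ.range)
        (inv_mem_adjoin hinv (IsIntegral.of_finite R _))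
    dsimp only
    rw [show IsLocalization.mk' (Localization.Away f) a (⟨f ^ k, k, rfl⟩ : Submonoid.powers f) =
      algebraMap A _ a * IsLocalization.Away.invSelf f ^ k by
        rw [IsLocalization.mk'_eq_iff_eq_mul, map_pow, mul_assoc, ← mul_pow, mul_comm (IsLocalization.Away.invSelf f),
          IsLocalization.Away.mul_invSelf, one_pow, mul_one], map_mul, map_pow, hσ]
    exact Subalgebra.mul_mem _ ⟨a, rfl⟩ (Subalgebra.pow_mem _ hy k)
  have hI : (I.map (algebraMap R (Localization.Away f))).FG := hfg.map _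
  have key : (⊤ : Submodule R B) ≤ Subalgebra.toSubmodule ρ.range := by
    refine Submodule.le_of_le_smul_of_le_jacobson_bot (I := I) (Module.Finite.fg_top)
      hjac fun b _ => ?_
    obtain ⟨x, rfl⟩ := hu b
    obtain ⟨z, hz⟩ := Groth.AdicLinTop.CompletionQuot.exists_sub_mem _ hI 1 x
    rw [pow_one, Ideal.map_map, ← IsScalarTower.algebraMap_eq] at hz
    have h1 := Ideal.mem_map_of_mem u.toRingHom hz
    rw [Ideal.map_map, show u.toRingHom.comp (algebraMap R (CLoc I f)) = algebraMap R B from RingHom.ext u.commutes,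
      ← Submodule.restrictScalars_mem R, ← Ideal.smul_top_eq_map, map_sub] at h1
    exact Submodule.mem_sup.2 ⟨σ z, hS z, _, h1, by simp [σ]⟩
  intro b
  obtain ⟨a, ha⟩ := key (Submodule.mem_top : b ∈ ⊤)
  exact ⟨a, ha⟩

end Groth.TopFinType
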