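import Groth.Agent.TopFinType.Rig
import Mathlib.RingTheory.NoetherNormalization
import Mathlib.FieldTheory.IsAlgClosed.AlgebraicClosure
import Mathlib.RingTheory.Localization.BaseChange
import Mathlib.Algebra.Polynomial.Lifts
import Mathlib.Algebra.Polynomial.Splits

/-! Rig points and maximal ideals of the generic fibre; specialization onto closed points. -/

set_option autoImplicit false

universe u v

open AdicRing
open scoped TensorProduct

namespace Groth.TopFinType

theorem rPow_zero_surjective {R : Type u} [CommRing R] {I : Ideal R} (hI : I.FG) [IsAdicComplete I R] :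
    Function.Surjective (algebraMap R (RPow R I 0)) := by
  intro x
  haveI := rPow_complete hI 0
  haveI : IsAdicComplete (I.map (algebraMap R R)) R := by rwa [Algebra.algebraMap_self, Ideal.map_id]
  obtain ⟨F, -⟩ := exists_eval (I := I) (B := R) (Fin.elim0 : Fin 0 → R)
  refine ⟨F x, (sub_eq_zero.1 (IsHausdorff.haus' (I := I.map (algebraMap R (RPow R I 0))) _ fun k => ?_)).symm⟩
  rw [SModEq.zero, smul_eq_mul, Ideal.mul_top]
  obtain ⟨p, hp⟩ := Groth.AdicLinTop.CompletionQuot.exists_sub_mem _ (hI.map _) k x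
  rw [← map_algebraMap_rPow] at hp
  obtain ⟨r, rfl⟩ : ∃ r, MvPolynomial.C r = p := ⟨_, (MvPolynomial.eq_C_of_isEmpty p).symm⟩
  rw [show algebraMap (MvPolynomial (Fin 0) R) (RPow R I 0) (MvPolynomial.C r) = algebraMap R (RPow R I 0) r from
    (IsScalarTower.algebraMap_apply R (MvPolynomial (Fin 0) R) (RPow R I 0) r).symm] at hp
  have h1 := Ideal.mem_map_of_mem F.toRingHom hp
  rw [Ideal.map_pow, Ideal.map_map, show F.toRingHom.comp (algebraMap R (RPow R I 0)) = RingHom.id R from
    RingHom.ext F.commutes, Ideal.map_id, map_sub] at h1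
  have h2 := Ideal.mem_map_of_mem (algebraMap R (RPow R I 0)) h1
  rw [Ideal.map_pow, map_sub, show F.toRingHom (algebraMap R (RPow R I 0) r) = r from F.commutes r] at h2
  have h3 := sub_mem hp h2
  rwa [sub_sub_sub_cancel_right] at h3

variable {R : Type u} [CommRing R] [IsDomain R] [ValuationRing R] [Ring.KrullDimLE 1 R]
  {t : R} [IsAdicComplete (Ideal.span {t}) R]

include t in
theorem exists_dvd_of_mem_map {B : Type v} [CommRing B] [Algebra R B] {x : B}
    (hx : x ∈ (IsLocalRing.maximalIdeal R).map (algebraMap R B)) :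
    ∃ c, ¬IsUnit c ∧ algebraMap R B c ∣ x := by
  induction hx using Submodule.span_induction with
  | mem x hx =>
    obtain ⟨c, hc, rfl⟩ := hx
    exact ⟨c, (IsLocalRing.mem_maximalIdeal c).1 hc, dvd_rfl⟩
  | zero => exact ⟨t, not_isUnit_t, dvd_zero _⟩
  | add x y _ _ hx hy =>
    obtain ⟨c, hc, hcx⟩ := hx
    obtain ⟨d, hd, hdy⟩ := hy
    rcases ValuationRing.dvd_total c d with h | h
    · exact ⟨c, hc, dvd_add hcx ((map_dvd _ h).trans hdy)⟩
    · exact ⟨d, hd, dvd_add ((map_dvd _ h).trans hcx) hdy⟩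
  | smul a x _ hx =>
    obtain ⟨c, hc, hcx⟩ := hx
    exact ⟨c, hc, hcx.mul_left a⟩

section Finite

open Polynomial in
/-- a domain topologically of finite type whose generic fibre is a field is finite -/
theorem finite_of_forall_exists_mul (ht : t ≠ 0) {B : Type u} [CommRing B] [IsDomain B] [Algebra R B]
    (hB : TopFiniteType R (Ideal.span {t}) B) (hτ : algebraMap R B t ≠ 0)
    (hfield : ∀ b : B, b ≠ 0 → ∃ b' r, r ≠ 0 ∧ b * b' = algebraMap R B r) :
    Module.Finite R B := by
  classical
  set I := Ideal.span {t} with hIdef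
  have hR : IsBase R I := isBase ht
  have hI : I.FG := fg_of_isBase hR
  haveI hcB := isAdicComplete_map_self hR hB
  let M := IsLocalRing.maximalIdeal R
  set N := M.map (algebraMap R B) with hN
  set TB := I.map (algebraMap R B) with hTB
  have htM : t ∈ M := (IsLocalRing.mem_maximalIdeal t).2 not_isUnit_t
  have hle : TB ≤ N := Ideal.map_mono ((Ideal.span_singleton_le_iff_mem _).2 htM)
  have hinj := algebraMap_injective (t := t) hτ
  haveI : Nontrivial (B ⧸ N) := Ideal.Quotient.nontrivial_iff.2 fun h => by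
    obtain ⟨c, hc, hc1⟩ := exists_dvd_of_mem_map (t := t) ((Ideal.eq_top_iff_one N).1 h)
    obtain ⟨k, hk⟩ := exists_dvd_pow_nonunit ht hc
    have hu : IsUnit (algebraMap R B c) := isUnit_of_dvd_one hc1
    have hmem : algebraMap R B c ^ k ∈ TB := by
      rw [← map_pow]; exact Ideal.mem_map_of_mem _ (Ideal.mem_span_singleton.2 hk)
    have htop : TB = ⊤ := Ideal.eq_top_of_isUnit_mem _ hmem (hu.pow k)
    have := Ideal.mem_jacobson_bot.1 (IsAdicComplete.le_jacobson_bot TB (htop.symm ▸ Submodule.mem_top : (1:B) ∈ TB)) (-1)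
    simp at this
  letI : Field (R ⧸ M) := Ideal.Quotient.field M
  letI : Algebra (R ⧸ M) (B ⧸ N) := (Ideal.quotientMap N (algebraMap R B) Ideal.le_comap_map).toAlgebra
  haveI : IsScalarTower R (R ⧸ M) (B ⧸ N) := IsScalarTower.of_algebraMap_eq fun r => rfl
  haveI hftTB : Algebra.FiniteType R (B ⧸ TB) := finiteType_quotient hI hB
  haveI : Algebra.FiniteType R (B ⧸ N) := Algebra.FiniteType.of_surjective
    (Ideal.Quotient.factorₐ R hle) (Ideal.Quotient.factor_surjective hle)
  haveI : Algebra.FiniteType (R ⧸ M) (B ⧸ N) := Algebra.FiniteType.of_restrictScalars_finiteType R _ _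
  obtain ⟨s, g, hginj, hgfin⟩ := exists_finite_inj_algHom_of_fg (R ⧸ M) (B ⧸ N)
  choose b hb using fun i => Ideal.Quotient.mk_surjective (I := N) (g (MvPolynomial.X i))
  obtain ⟨G, hG⟩ := exists_eval (I := I) b
  have hcomm : ∀ p : MvPolynomial (Fin s) R,
      Ideal.Quotient.mk N (G (algebraMap _ _ p)) = g (MvPolynomial.map (Ideal.Quotient.mk M) p) := fun p => by
    rw [hG]
    induction p using MvPolynomial.induction_on with
    | C r =>
      rw [MvPolynomial.aeval_C, MvPolynomial.map_C, MvPolynomial.algHom_C]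
      rfl
    | add p q hp hq => simp only [map_add, hp, hq]
    | mul_X p i hp => simp only [map_mul, hp, MvPolynomial.aeval_X, hb, MvPolynomial.map_X]
  letI : Algebra (RPow R I s) B := G.toRingHom.toAlgebra
  haveI : IsScalarTower R (RPow R I s) B := IsScalarTower.of_algebraMap_eq fun r => (G.commutes r).symm
  haveI := rPow_complete hI s
  let IP := I.map (algebraMap R (RPow R I s))
  have hIP : IP.map (algebraMap (RPow R I s) B) = TB := by
    rw [Ideal.map_map, ← IsScalarTower.algebraMap_eq]
  haveI : Algebra.FiniteType (RPow R I s) (B ⧸ TB) := Algebra.FiniteType.of_restrictScalars_finiteType R _ _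
  haveI : Algebra.IsIntegral (RPow R I s) (B ⧸ TB) := ⟨fun y => by
    obtain ⟨z, rfl⟩ := Ideal.Quotient.mk_surjective y
    letI := g.toRingHom.toAlgebra
    haveI : Module.Finite (MvPolynomial (Fin s) (R ⧸ M)) (B ⧸ N) := hgfin
    obtain ⟨p, hp, hpz⟩ := IsIntegral.of_finite (MvPolynomial (Fin s) (R ⧸ M)) (Ideal.Quotient.mk N z)
    obtain ⟨q, hq, -, hqm⟩ := Polynomial.lifts_and_natDegree_eq_and_monic
      (f := MvPolynomial.map (σ := Fin s) (Ideal.Quotient.mk M)) (by
        rw [Polynomial.lifts_iff_coeff_lifts]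
        exact fun n => MvPolynomial.map_surjective _ Ideal.Quotient.mk_surjective (p.coeff n)) hp
    let P : Polynomial (RPow R I s) := q.map (algebraMap _ _)
    have hPm : P.Monic := hqm.map _
    have hPN : P.eval₂ G.toRingHom z ∈ N := by
      rw [← Ideal.Quotient.eq_zero_iff_mem, Polynomial.hom_eval₂, Polynomial.eval₂_map,
        show ((Ideal.Quotient.mk N).comp G.toRingHom).comp (algebraMap (MvPolynomial (Fin s) R) (RPow R I s)) =
          g.toRingHom.comp (MvPolynomial.map (Ideal.Quotient.mk M)) from RingHom.ext hcomm,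
        ← Polynomial.eval₂_map, hq]
      exact hpz
    obtain ⟨c, hc, hcd⟩ := exists_dvd_of_mem_map (t := t) hPN
    obtain ⟨k, hk⟩ := exists_dvd_pow_nonunit ht hc
    refine ⟨P ^ k, hPm.pow k, ?_⟩
    rw [show algebraMap (RPow R I s) (B ⧸ TB) = (Ideal.Quotient.mk TB).comp G.toRingHom from rfl,
      ← Polynomial.hom_eval₂, Ideal.Quotient.eq_zero_iff_mem, Polynomial.eval₂_pow]
    obtain ⟨w, hw⟩ := hcd
    rw [hw, mul_pow, ← map_pow]
    exact Ideal.mul_mem_right _ _ (Ideal.mem_map_of_mem _ (Ideal.mem_span_singleton.2 hk))⟩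
  haveI : Module.Finite (RPow R I s) (B ⧸ TB) := Algebra.IsIntegral.finite
  haveI : IsHausdorff IP B := by
    have h1 : IsHausdorff (IP.map (algebraMap (RPow R I s) B)) B := hIP.symm ▸ hcB.toIsHausdorff
    exact IsHausdorff.map_algebraMap_iff.1 h1
  haveI hfinG : Module.Finite (RPow R I s) B := by
    refine Groth.Calg1.module_finite_of_isHausdorff IP B ?_
    exact Module.Finite.equiv ((Submodule.Quotient.restrictScalarsEquiv (RPow R I s) TB).symm.trans
      (Submodule.quotEquivOfEq _ _ (by rw [Ideal.smul_top_eq_map, hIP])))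
  -- injectivity of `G`
  have hGinj : Function.Injective G := (injective_iff_map_eq_zero _).2 fun x hx => by_contra fun hx0 => by
    let τ := algebraMap R (RPow R I s) t
    have hIPτ : IP = Ideal.span {τ} := map_span_singleton _ _
    have hex : ∃ j, ¬ τ ^ j ∣ x := by
      by_contra! h
      refine hx0 (IsHausdorff.haus' (I := IP) x fun k => ?_)
      rw [SModEq.zero, smul_eq_mul, Ideal.mul_top, hIPτ, Ideal.span_singleton_pow, Ideal.mem_span_singleton]
      exact h k
    obtain ⟨j, hj, hj'⟩ : ∃ j, τ ^ j ∣ x ∧ ¬ τ ^ (j + 1) ∣ x := by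
      rcases h : Nat.find hex with _ | j
      · exact absurd (one_dvd x) (by simpa [h] using Nat.find_spec hex)
      · exact ⟨j, by simpa using Nat.find_min hex (h ▸ j.lt_succ_self), h ▸ Nat.find_spec hex⟩
    obtain ⟨x1, rfl⟩ := hj
    rw [pow_succ] at hj'
    have hx1 : G x1 = 0 := by
      rw [map_mul, map_pow, show G τ = algebraMap R B t from G.commutes t, mul_eq_zero] at hx
      exact hx.resolve_left (pow_ne_zero j hτ)
    have hred : red I s x1 ≠ 0 := fun h => hj' (mul_dvd_mul_left _ (Ideal.mem_span_singleton.1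
      (hIPτ.le ((ker_red hI).le h))))
    choose lft hlft using (Ideal.Quotient.mk_surjective (I := I))
    obtain ⟨u, hut, hu, hatt⟩ := exists_gcd (t := t) ((red I s x1).support.image fun w => lft ((red I s x1).coeff w))
    have hdvd : ∀ w ∈ (red I s x1).support, u ∣ lft ((red I s x1).coeff w) := fun w hw =>
      hu _ (Finset.mem_image_of_mem _ hw)
    have htu : ¬ t ∣ u := fun h => hred (MvPolynomial.ext _ _ fun w => by
      by_contra hw
      rw [MvPolynomial.coeff_zero] at hw
      apply hw
      rw [← hlft ((red I s x1).coeff w)]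
      exact Ideal.Quotient.eq_zero_iff_mem.2 (Ideal.mem_span_singleton.2
        (h.trans (hdvd w (MvPolynomial.mem_support_iff.2 hw)))))
    obtain ⟨v₀, hv₀, hv₀u⟩ := Finset.mem_image.1 (hatt.resolve_left htu)
    obtain ⟨v', hv'⟩ := hut
    have hv'M : v' ∈ M := (IsLocalRing.mem_maximalIdeal v').2 fun hv => htu ⟨↑hv.unit⁻¹, by
      rw [hv', mul_assoc, IsUnit.mul_val_inv, mul_one]⟩
    have hu0 : u ≠ 0 := fun e => ht (by rw [hv', e, zero_mul])
    have hd' : ∀ w, ∃ d, lft ((red I s x1).coeff w) = u * d ∨ (red I s x1).coeff w = 0 := fun w => by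
      by_cases hw : (red I s x1).coeff w = 0
      · exact ⟨0, Or.inr hw⟩
      · obtain ⟨d, hd⟩ := hdvd w (MvPolynomial.mem_support_iff.2 hw)
        exact ⟨d, Or.inl hd⟩
    choose d hd using hd'
    let D : MvPolynomial (Fin s) R := ∑ w ∈ (red I s x1).support, MvPolynomial.monomial w (d w)
    have hred2 : red I s (x1 - algebraMap R (RPow R I s) u * algebraMap _ (RPow R I s) D) = 0 := by
      rw [map_sub, map_mul, IsScalarTower.algebraMap_apply R (MvPolynomial (Fin s) R) (RPow R I s), red_of, red_of,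
        sub_eq_zero, MvPolynomial.algebraMap_eq, MvPolynomial.map_C]
      conv_lhs => rw [MvPolynomial.as_sum (red I s x1)]
      simp only [D, map_sum, Finset.mul_sum, MvPolynomial.map_monomial, MvPolynomial.C_mul_monomial]
      refine Finset.sum_congr rfl fun w hw => ?_
      rw [← map_mul, ← (hd w).resolve_right (MvPolynomial.mem_support_iff.1 hw), hlft]
    obtain ⟨z, hz⟩ := Ideal.mem_span_singleton'.1 (hIPτ.le ((ker_red hI).le hred2))
    let x3 := algebraMap (MvPolynomial (Fin s) R) (RPow R I s) D + algebraMap R (RPow R I s) v' * z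
    have hx3 : x1 = algebraMap R (RPow R I s) u * x3 := by
      simp only [x3, mul_add, ← mul_assoc, ← map_mul, ← hv']
      rw [mul_comm (algebraMap R (RPow R I s) t) z, hz, add_sub_cancel]
    have hG3 : G x3 = 0 := by
      rw [hx3, map_mul, G.commutes, mul_eq_zero] at hx1
      exact hx1.resolve_left fun h => hu0 (hinj (h.trans (map_zero _).symm))
    have h0 : g (MvPolynomial.map (Ideal.Quotient.mk M) D) = 0 := by
      rw [← hcomm]
      have h1 : Ideal.Quotient.mk N (G x3) = 0 := by rw [hG3, map_zero]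
      simp only [x3, map_add, map_mul, G.commutes] at h1
      rwa [Ideal.Quotient.eq_zero_iff_mem.2 (Ideal.mem_map_of_mem (algebraMap R B) hv'M), zero_mul, add_zero] at h1
    have h2 : (MvPolynomial.map (Ideal.Quotient.mk M) D).coeff v₀ = 0 := by
      rw [(map_eq_zero_iff g hginj).1 h0, MvPolynomial.coeff_zero]
    rw [MvPolynomial.coeff_map, Ideal.Quotient.eq_zero_iff_mem] at h2
    apply (IsLocalRing.mem_maximalIdeal _).1 h2
    simp only [D, MvPolynomial.coeff_sum, MvPolynomial.coeff_monomial, Finset.sum_ite_eq', hv₀, if_true]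
    have h3 := (hd v₀).resolve_right (MvPolynomial.mem_support_iff.1 hv₀)
    rw [hv₀u] at h3
    rw [(mul_eq_left₀ hu0).1 h3.symm]
    exact isUnit_one
  -- no variables
  have hs : s = 0 := by
    by_contra hs
    obtain ⟨s, rfl⟩ := Nat.exists_eq_succ_of_ne_zero hs
    let X₀ := algebraMap (MvPolynomial (Fin (s + 1)) R) (RPow R I (s + 1)) (MvPolynomial.X 0)
    have hX : X₀ ≠ 0 := fun h => by
      have h1 := congrArg (red I (s + 1)) h
      rw [red_of, MvPolynomial.map_X, map_zero] at h1
      haveI : Nontrivial (R ⧸ I) := Ideal.Quotient.nontrivial_iff.2 fun h =>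
        not_isUnit_t (t := t) (Ideal.span_singleton_eq_top.1 h)
      exact MvPolynomial.X_ne_zero 0 h1
    obtain ⟨b', r, hr, hbr⟩ := hfield (G X₀) fun h => hX (hGinj (h.trans (map_zero G).symm))
    obtain ⟨p, hp, hpb⟩ := IsIntegral.of_finite (RPow R I (s + 1)) b'
    rw [← Polynomial.aeval_def, Polynomial.aeval_eq_sum_range, Finset.sum_range_succ, hp.coeff_natDegree, one_smul]
      at hpb
    have h1 : ∑ i ∈ Finset.range p.natDegree, p.coeff i * algebraMap R _ r ^ i * X₀ ^ (p.natDegree - i) +
        algebraMap R _ r ^ p.natDegree = 0 := by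
      apply hGinj
      rw [map_zero, map_add, map_sum, ← mul_zero (G X₀ ^ p.natDegree), ← hpb, mul_add, Finset.mul_sum]
      congr 1
      · refine Finset.sum_congr rfl fun i hi => ?_
        have e : G X₀ ^ p.natDegree = G X₀ ^ (p.natDegree - i) * G X₀ ^ i := by
          rw [← pow_add, Nat.sub_add_cancel (Finset.mem_range.1 hi).le]
        rw [map_mul, map_mul, map_pow, map_pow, G.commutes, ← hbr, e, Algebra.smul_def, mul_pow,
          show algebraMap (RPow R I (s + 1)) B (p.coeff i) = G (p.coeff i) from rfl]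
        ring
      · rw [map_pow, G.commutes, ← hbr, mul_pow]
    haveI : IsAdicComplete (I.map (algebraMap R R)) R := by rw [Algebra.algebraMap_self, Ideal.map_id]; exact hR.1
    obtain ⟨E, hE⟩ := exists_eval (I := I) (B := R) (fun _ : Fin (s + 1) => (0 : R))
    have h2 := congrArg E h1
    rw [map_zero, map_add, map_sum, map_pow, E.commutes, Finset.sum_eq_zero (fun i hi => by
      rw [map_mul, map_pow E X₀, hE, MvPolynomial.aeval_X, zero_pow (Nat.sub_ne_zero_of_lt (Finset.mem_range.1 hi)),
        mul_zero]), zero_add, Algebra.algebraMap_self, RingHom.id_apply] at h2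
    exact pow_ne_zero _ hr h2
  subst hs
  haveI : Module.Finite R (RPow R I 0) :=
    Module.Finite.of_surjective (Algebra.linearMap R _) (by
      haveI := hR.1
      exact rPow_zero_surjective hI)
  exact Module.Finite.trans (RPow R I 0) B

end Finite

/-- every maximal ideal of the special fibre of the formal affine space is the specialization of a rig point -/
theorem exists_prime_le (ht : t ≠ 0) (n : ℕ) (m : Ideal (RPow R (Ideal.span {t}) n)) [m.IsMaximal]
    (hm : algebraMap R (RPow R (Ideal.span {t}) n) t ∈ m) :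
    ∃ p : Ideal (RPow R (Ideal.span {t}) n), p.IsPrime ∧ p ≤ m ∧
      algebraMap R (RPow R (Ideal.span {t}) n) t ∉ p ∧
      ringKrullDim (RPow R (Ideal.span {t}) n ⧸ p) = 1 := by
  classical
  let P := RPow R (Ideal.span {t}) n
  have hR : IsBase R (Ideal.span {t}) := isBase ht
  have hI := fg_of_isBase hR
  let M := IsLocalRing.maximalIdeal R
  have hMm : ∀ r ∈ M, algebraMap R P r ∈ m := fun r hr => by
    obtain ⟨k, c, hk⟩ := exists_dvd_pow_nonunit ht ((IsLocalRing.mem_maximalIdeal r).1 hr)
    refine (Ideal.IsMaximal.isPrime inferInstance).mem_of_pow_mem k ?_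
    rw [← map_pow, hk, map_mul]
    exact m.mul_mem_right _ hm
  have hIm : (Ideal.span {t}).map (algebraMap R P) ≤ m := by
    rw [map_span_singleton (algebraMap R P), Ideal.span_singleton_le_iff_mem]; exact hm
  letI : Field (R ⧸ M) := Ideal.Quotient.field M
  letI : Field (P ⧸ m) := Ideal.Quotient.field m
  letI : Algebra (R ⧸ M) (P ⧸ m) := (Ideal.quotientMap m (algebraMap R P) hMm).toAlgebra
  haveI : IsScalarTower R (R ⧸ M) (P ⧸ m) := IsScalarTower.of_algebraMap_eq fun r => rfl
  haveI := finiteType_quotient hI (topFiniteType_rPow (Ideal.span {t}) n)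
  haveI : Algebra.FiniteType R (P ⧸ m) := Algebra.FiniteType.of_surjective
    (Ideal.Quotient.factorₐ R hIm) (Ideal.Quotient.factor_surjective hIm)
  haveI : Algebra.FiniteType (R ⧸ M) (P ⧸ m) := Algebra.FiniteType.of_restrictScalars_finiteType R _ _
  haveI : Module.Finite (R ⧸ M) (P ⧸ m) := finite_of_finite_type_of_isJacobsonRing _ _
  haveI : Algebra.IsIntegral (R ⧸ M) (P ⧸ m) := Algebra.IsIntegral.of_finite _ _
  -- the valuation ring upstairs
  let Ka := AlgebraicClosure (FractionRing R)
  have hinjK : Function.Injective (algebraMap R Ka) := by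
    rw [IsScalarTower.algebraMap_eq R (FractionRing R) Ka]
    exact (algebraMap (FractionRing R) Ka).injective.comp (IsFractionRing.injective R _)
  let O := integralClosure R Ka
  have hinjO : Function.Injective (algebraMap R O) := fun a b h => hinjK (congrArg Subtype.val h)
  haveI : Algebra.IsIntegral R O := IsIntegralClosure.isIntegral_algebra R Ka
  obtain ⟨M', hM', hM'c⟩ := Ideal.exists_ideal_over_maximal_of_isIntegral (S := O) M
    (by rw [(RingHom.injective_iff_ker_eq_bot _).1 hinjO]; exact bot_le)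
  haveI := hM'
  letI : Field (O ⧸ M') := Ideal.Quotient.field M'
  let Kb := AlgebraicClosure (O ⧸ M')
  let π : O →+* Kb := (algebraMap (O ⧸ M') Kb).comp (Ideal.Quotient.mk M')
  letI : Algebra (R ⧸ M) Kb := ((algebraMap (O ⧸ M') Kb).comp
    (Ideal.quotientMap M' (algebraMap R O) hM'c.ge)).toAlgebra
  let ι : (P ⧸ m) →ₐ[R ⧸ M] Kb := IsAlgClosed.lift
  have hι : ∀ r : R, ι (Ideal.Quotient.mk m (algebraMap R P r)) = π (algebraMap R O r) := fun r =>
    (ι.commutes (Ideal.Quotient.mk M r) :)
  let x : Fin n → P ⧸ m := fun i => Ideal.Quotient.mk m (algebraMap (MvPolynomial (Fin n) R) P (MvPolynomial.X i))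
  have hroot : ∀ i, ∃ ρ : O, π ρ = ι (x i) := fun i => by
    obtain ⟨p, hp, hpx⟩ := Algebra.IsIntegral.isIntegral (R := R ⧸ M) (x i)
    obtain ⟨q, hq, -, hqm⟩ := Polynomial.lifts_and_natDegree_eq_and_monic (f := Ideal.Quotient.mk M) (by
      rw [Polynomial.lifts_iff_coeff_lifts]
      exact fun n => Ideal.Quotient.mk_surjective (p.coeff n)) hp
    have hsp := (IsAlgClosed.splits (q.map (algebraMap R Ka))).eq_prod_roots_of_monic (hqm.map _)
    have hint : ∀ a ∈ (q.map (algebraMap R Ka)).roots, a ∈ O := fun a ha =>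
      ⟨q, hqm, by rw [← Polynomial.eval_map]; exact (Polynomial.mem_roots'.1 ha).2⟩
    let ρs : Multiset O := (q.map (algebraMap R Ka)).roots.attach.map fun a => ⟨a.1, hint a.1 a.2⟩
    have hqO : q.map (algebraMap R O) = (ρs.map fun a => Polynomial.X - Polynomial.C a).prod := by
      apply Polynomial.map_injective O.val.toRingHom Subtype.val_injective
      rw [Polynomial.map_map, Polynomial.map_multiset_prod, Multiset.map_map,
        show O.val.toRingHom.comp (algebraMap R O) = algebraMap R Ka from rfl]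
      conv_lhs => rw [hsp, ← Multiset.attach_map_val (q.map (algebraMap R Ka)).roots]
      simp only [ρs, Multiset.map_map]
      refine congrArg Multiset.prod (Multiset.map_congr rfl fun a _ => ?_)
      simp
    have h0 : (q.map (algebraMap R O)).eval₂ π (ι (x i)) = 0 := by
      rw [Polynomial.eval₂_map,
        show π.comp (algebraMap R O) = (algebraMap (R ⧸ M) Kb).comp (Ideal.Quotient.mk M) from rfl,
        ← Polynomial.eval₂_map, hq, ← Polynomial.aeval_def, Polynomial.aeval_algHom_apply,
        Polynomial.aeval_def, hpx, map_zero]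
    rw [hqO, Polynomial.eval₂_multiset_prod, Multiset.prod_eq_zero_iff, Multiset.map_map, Multiset.mem_map] at h0
    obtain ⟨ρ, -, hρ⟩ := h0
    refine ⟨ρ, (sub_eq_zero.1 ?_).symm⟩
    simpa using hρ
  choose ρ hρ using hroot
  let D := Algebra.adjoin R (Set.range ρ)
  haveI : Module.Finite R D := Module.Finite.iff_fg.2
    (fg_adjoin_of_finite (Set.finite_range ρ) fun a _ => Algebra.IsIntegral.isIntegral a)
  haveI := (IsAdicComplete.map_algebraMap_iff (S := D) (I := Ideal.span {t}) D).2 (isAdicComplete_finite hR D)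
  obtain ⟨F, hF⟩ := exists_eval (I := Ideal.span {t}) (fun i => (⟨ρ i, Algebra.subset_adjoin ⟨i, rfl⟩⟩ : D))
  have hFs : Function.Surjective F := fun y => by
    have hle : D ≤ (D.val.comp F).range := Algebra.adjoin_le fun a ⟨i, hi⟩ =>
      ⟨algebraMap _ _ (MvPolynomial.X i), by subst hi; show (F _ : O) = _; rw [hF, MvPolynomial.aeval_X]⟩
    obtain ⟨z, hz⟩ := hle y.2
    exact ⟨z, Subtype.ext hz⟩
  let q := RingHom.ker F.toRingHom
  haveI : q.IsPrime := RingHom.ker_isPrime _
  refine ⟨q, inferInstance, fun z hz => ?_, fun h => ht (hinjO ?_), ?_⟩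
  · let θ₁ : P →+* Kb := ι.toRingHom.comp (Ideal.Quotient.mk m)
    let θ₂ : P →+* Kb := π.comp (D.val.toRingHom.comp F.toRingHom)
    have hP : θ₁.comp (algebraMap (MvPolynomial (Fin n) R) P) = θ₂.comp (algebraMap _ P) := by
      refine MvPolynomial.ringHom_ext (fun r => ?_) fun i => ?_
      · show ι (Ideal.Quotient.mk m (algebraMap (MvPolynomial (Fin n) R) P (MvPolynomial.C r))) = π ↑(F (algebraMap (MvPolynomial (Fin n) R) P (MvPolynomial.C r)))
        rw [hF, MvPolynomial.aeval_C, show algebraMap (MvPolynomial (Fin n) R) P (MvPolynomial.C r) = algebraMap R P r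
          from (IsScalarTower.algebraMap_apply R (MvPolynomial (Fin n) R) P r).symm, hι]
        rfl
      · show ι (x i) = π ↑(F (algebraMap (MvPolynomial (Fin n) R) P (MvPolynomial.X i)))
        rw [hF, MvPolynomial.aeval_X]
        exact (hρ i).symm
    obtain ⟨p, hp⟩ := Groth.AdicLinTop.CompletionQuot.exists_sub_mem _ (hI.map _) 1 z
    rw [pow_one, ← map_algebraMap_rPow] at hp
    have hkill : ∀ w ∈ (Ideal.span {t}).map (algebraMap R P), θ₁ w = 0 ∧ θ₂ w = 0 := by
      have h1 : (Ideal.span {t}).map (algebraMap R P) ≤ RingHom.ker θ₁ ⊓ RingHom.ker θ₂ := by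
        rw [map_span_singleton (algebraMap R P), Ideal.span_singleton_le_iff_mem]
        refine ⟨?_, ?_⟩
        · show ι (Ideal.Quotient.mk m _) = 0
          rw [Ideal.Quotient.eq_zero_iff_mem.2 hm, map_zero]
        · show π ↑(F (algebraMap R P t)) = 0
          rw [F.commutes, Subalgebra.coe_algebraMap]
          show algebraMap _ Kb (Ideal.Quotient.mk M' _) = 0
          rw [Ideal.Quotient.eq_zero_iff_mem.2 (show algebraMap R O t ∈ M' from
            hM'c.ge ((IsLocalRing.mem_maximalIdeal t).2 (not_isUnit_t (t := t)))), map_zero]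
      exact fun w hw => h1 hw
    obtain ⟨k1, k2⟩ := hkill _ hp
    rw [map_sub, sub_eq_zero] at k1 k2
    have h0 : θ₁ z = 0 := by
      rw [k1, show θ₁ (algebraMap _ _ p) = θ₂ (algebraMap _ _ p) from RingHom.congr_fun hP p, ← k2]
      show π ↑(F z) = 0
      rw [show F z = 0 from hz, ZeroMemClass.coe_zero, map_zero]
    exact Ideal.Quotient.eq_zero_iff_mem.1 ((map_eq_zero ι.toRingHom).1 h0)
  · have h1 : F (algebraMap R P t) = 0 := h
    rw [F.commutes] at h1
    rw [map_zero]
    exact congrArg Subtype.val h1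
  · rw [ringKrullDim_eq_of_ringEquiv (RingHom.quotientKerEquivOfSurjective (f := F.toRingHom) hFs)]
    exact (rigPoint_of_finite (t := t) ht (T := D) fun a b h => hinjO (congrArg Subtype.val h)).2

/-- rig points correspond to the maximal ideals of the generic fibre -/
theorem rigPoints_maximal (ht : t ≠ 0) {A : Type u} [CommRing A] [Algebra R A]
    (hA : TopFiniteType R (Ideal.span {t}) A) :
    (∀ p : Ideal A, p.IsPrime → algebraMap R A t ∉ p → ringKrullDim (A ⧸ p) = 1 →
        (p.map (Algebra.TensorProduct.includeLeftRingHom : A →+* A ⊗[R] FractionRing R)).IsMaximal ∧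
        (p.map (Algebra.TensorProduct.includeLeftRingHom : A →+* A ⊗[R] FractionRing R)).comap
          (Algebra.TensorProduct.includeLeftRingHom : A →+* A ⊗[R] FractionRing R) = p) ∧
      (∀ m : Ideal (A ⊗[R] FractionRing R), m.IsMaximal →
        algebraMap R A t ∉ m.comap (Algebra.TensorProduct.includeLeftRingHom :
            A →+* A ⊗[R] FractionRing R) ∧
          ringKrullDim (A ⧸ m.comap (Algebra.TensorProduct.includeLeftRingHom :
            A →+* A ⊗[R] FractionRing R)) = 1 ∧
          (m.comap (Algebra.TensorProduct.includeLeftRingHom :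
            A →+* A ⊗[R] FractionRing R)).map (Algebra.TensorProduct.includeLeftRingHom :
            A →+* A ⊗[R] FractionRing R) = m) := by
  let K := FractionRing R
  let S := Algebra.algebraMapSubmonoid A (nonZeroDivisors R)
  haveI : IsLocalization S (A ⊗[R] K) := inferInstance
  have hι : (Algebra.TensorProduct.includeLeftRingHom : A →+* A ⊗[R] K) = algebraMap A (A ⊗[R] K) := rfl
  have htS : algebraMap R A t ∈ S := ⟨t, mem_nonZeroDivisors_of_ne_zero ht, rfl⟩
  have hq : ∀ p : Ideal A, TopFiniteType R (Ideal.span {t}) (A ⧸ p) := fun p => by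
    obtain ⟨n, φ, hφ⟩ := hA
    exact ⟨n, (Ideal.Quotient.mkₐ R p).comp φ, Ideal.Quotient.mk_surjective.comp hφ⟩
  refine ⟨fun p hp htp hdim => ?_, fun m hm => ?_⟩
  · haveI := hp
    have hτ : algebraMap R (A ⧸ p) t ≠ 0 := fun h => htp (Ideal.Quotient.eq_zero_iff_mem.1 h)
    haveI : Ring.KrullDimLE 1 (A ⧸ p) := Ring.krullDimLE_iff.2 hdim.le
    haveI := finite_of_krullDimLE ht (hq p) hτ
    haveI : Algebra.IsIntegral R (A ⧸ p) := Algebra.IsIntegral.of_finite R _
    have hinj := algebraMap_injective (t := t) hτ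
    have hdisj : Disjoint (S : Set A) p := Set.disjoint_left.2 fun a ha hap => by
      obtain ⟨r, hr, rfl⟩ := ha
      exact nonZeroDivisors.ne_zero hr (hinj ((Ideal.Quotient.eq_zero_iff_mem.2 hap).trans (map_zero _).symm))
    have hcomap := IsLocalization.under_map_of_isPrime_disjoint S (A ⊗[R] K) hp hdisj
    rw [hι]
    refine ⟨Ideal.isMaximal_def.2 ⟨(IsLocalization.isPrime_of_isPrime_disjoint S (A ⊗[R] K) p hp hdisj).ne_top,
      fun J hJ => ?_⟩, hcomap⟩
    have hle : p ≤ J.comap (algebraMap A (A ⊗[R] K)) := hcomap.symm.le.trans (Ideal.comap_mono hJ.le)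
    have hne : (J.comap (algebraMap A (A ⊗[R] K))).map (Ideal.Quotient.mk p) ≠ ⊥ := fun h => by
      refine hJ.ne (le_antisymm hJ.le ?_)
      rw [Ideal.map_eq_bot_iff_le_ker, Ideal.mk_ker] at h
      rw [← IsLocalization.map_under S (A ⊗[R] K) J]
      exact Ideal.map_mono h
    obtain ⟨r, hr, hr0⟩ := Submodule.exists_mem_ne_zero_of_ne_bot
      (mt (Ideal.eq_bot_of_comap_eq_bot (R := R)) hne)
    rw [Ideal.mem_comap, IsScalarTower.algebraMap_apply R A (A ⧸ p),
      Ideal.Quotient.algebraMap_eq, Ideal.mem_map_iff_of_surjective _ Ideal.Quotient.mk_surjective] at hr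
    obtain ⟨a, ha, har⟩ := hr
    have : algebraMap R A r ∈ J.comap (algebraMap A (A ⊗[R] K)) := by
      have := sub_mem ha (hle (Ideal.Quotient.eq.1 har))
      rwa [sub_sub_cancel] at this
    exact Ideal.eq_top_of_isUnit_mem _ this
      (IsLocalization.map_units _ (⟨_, r, mem_nonZeroDivisors_of_ne_zero hr0, rfl⟩ : S))
  · haveI := hm
    rw [hι]
    set p := m.comap (algebraMap A (A ⊗[R] K))
    have hτp : algebraMap R A t ∉ p := fun h =>
      hm.ne_top (Ideal.eq_top_of_isUnit_mem _ h (IsLocalization.map_units _ (⟨_, htS⟩ : S)))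
    haveI : p.IsPrime := Ideal.IsPrime.comap _
    have hτ : algebraMap R (A ⧸ p) t ≠ 0 := fun h => hτp (Ideal.Quotient.eq_zero_iff_mem.1 h)
    haveI := finite_of_forall_exists_mul ht (hq p) hτ (fun b hb => by
      obtain ⟨a, rfl⟩ := Ideal.Quotient.mk_surjective b
      have ha : algebraMap A (A ⊗[R] K) a ∉ m := fun h => hb (Ideal.Quotient.eq_zero_iff_mem.2 h)
      obtain ⟨y, e, he, hye⟩ := Ideal.IsMaximal.exists_inv hm ha
      obtain ⟨⟨a', ⟨_, r, hr, rfl⟩⟩, rfl⟩ := IsLocalization.mk'_surjective S y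
      refine ⟨Ideal.Quotient.mk p a', r, nonZeroDivisors.ne_zero hr, ?_⟩
      rw [IsScalarTower.algebraMap_apply R A (A ⧸ p), Ideal.Quotient.algebraMap_eq, ← map_mul, Ideal.Quotient.eq]
      show algebraMap A (A ⊗[R] K) _ ∈ m
      have h1 : algebraMap A (A ⊗[R] K) (a * a' - algebraMap R A r) = -(e * algebraMap A _ (algebraMap R A r)) := by
        rw [map_sub, map_mul]
        have := congrArg (· * algebraMap A (A ⊗[R] K) (algebraMap R A r)) hye
        simp only [one_mul, add_mul] at this
        rw [mul_right_comm, IsLocalization.mk'_spec] at this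
        linear_combination this
      rw [h1]
      exact neg_mem (Ideal.mul_mem_right _ _ he))
    exact ⟨hτp, (rigPoint_of_finite (t := t) ht (algebraMap_injective (t := t) hτ)).2,
      IsLocalization.map_under S (A ⊗[R] K) m⟩

end Groth.TopFinType
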