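import Groth.Agent.TopFinType.Rig
import Mathlib.RingTheory.Localization.BaseChange

/-! Admissible algebras inside their generic fibre. -/

set_option autoImplicit false

universe u v

open AdicRing
open scoped TensorProduct

namespace Groth.TopFinType

variable {R : Type u} [CommRing R] [IsDomain R] [ValuationRing R] [Ring.KrullDimLE 1 R]
  {t : R} [IsAdicComplete (Ideal.span {t}) R]

include t in
theorem eq_zero_of_smul {A : Type v} [CommRing A] [Algebra R A] (hA : NoPowTorsion (Ideal.span {t}) A) {r : R}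
    (hr : r ≠ 0) {a : A} (h : r • a = 0) : a = 0 := by
  obtain ⟨k, s, hk⟩ := exists_pow_dvd (t := t) hr
  refine hA a k fun x hx => ?_
  rw [Ideal.span_singleton_pow, Ideal.mem_span_singleton'] at hx
  obtain ⟨y, rfl⟩ := hx
  rw [hk, mul_comm r s, mul_smul, mul_smul, h, smul_zero, smul_zero]

include t in
theorem injective_generic {A : Type u} [CommRing A] [Algebra R A] (hA : NoPowTorsion (Ideal.span {t}) A) :
    Function.Injective (algebraMap A (A ⊗[R] FractionRing R)) := by
  haveI : IsLocalization (Algebra.algebraMapSubmonoid A (nonZeroDivisors R)) (A ⊗[R] FractionRing R) := inferInstance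
  refine IsLocalization.injective (M := Algebra.algebraMapSubmonoid A (nonZeroDivisors R)) (A ⊗[R] FractionRing R) ?_
  rintro _ ⟨r, hr, rfl⟩
  refine mem_nonZeroDivisors_iff_right.2 fun a ha => eq_zero_of_smul hA (nonZeroDivisors.ne_zero hr) ?_
  rw [Algebra.smul_def, mul_comm]
  exact ha

omit [ValuationRing R] [Ring.KrullDimLE 1 R] [IsAdicComplete (Ideal.span {t}) R] in
theorem isUnit_generic {A : Type u} [CommRing A] [Algebra R A] {r : R} (hr : r ≠ 0) :
    IsUnit (algebraMap R (A ⊗[R] FractionRing R) r) := by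
  rw [IsScalarTower.algebraMap_apply R A (A ⊗[R] FractionRing R)]
  exact IsLocalization.map_units _
    (⟨_, r, mem_nonZeroDivisors_of_ne_zero hr, rfl⟩ : Algebra.algebraMapSubmonoid A (nonZeroDivisors R))

theorem gsmul_def {A : Type u} [CommRing A] [Algebra R A] (r : R) (x : A ⊗[R] FractionRing R) :
    r • x = algebraMap R (A ⊗[R] FractionRing R) r * x := Algebra.smul_def r x

theorem eq_of_smul_eq {A : Type u} [CommRing A] [Algebra R A] {r : R} (hr : r ≠ 0)
    {x y : A ⊗[R] FractionRing R} (h : r • x = r • y) : x = y := by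
  rw [gsmul_def, gsmul_def] at h
  exact (isUnit_generic hr).mul_left_cancel h

/-- finite subalgebras of the generic fibre are admissible -/
theorem admissible_adjoin (ht : t ≠ 0) {A : Type u} [CommRing A] [Algebra R A]
    (hA : Admissible R (Ideal.span {t}) A) {n : ℕ} (f : Fin n → A ⊗[R] FractionRing R) (hf : ∀ i, IsIntegral A (f i)) :
    Admissible R (Ideal.span {t}) ↥(Algebra.adjoin A (Set.range f)) ∧
      Module.Finite A ↥(Algebra.adjoin A (Set.range f)) := by
  set T := Algebra.adjoin A (Set.range f)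
  haveI hfin : Module.Finite A T := Module.Finite.iff_fg.2
    (fg_adjoin_of_finite (Set.finite_range f) (by rintro _ ⟨i, rfl⟩; exact hf i))
  have hnt : NoPowTorsion (Ideal.span {t}) T := fun x k hx => by
    have h1 := congrArg Subtype.val (hx (t ^ k) (Ideal.pow_mem_pow (Ideal.mem_span_singleton_self t) k))
    exact Subtype.ext (eq_of_smul_eq (pow_ne_zero k ht) (h1.trans (smul_zero _).symm))
  have hft := topFiniteType_of_finite (isBase ht) (topFiniteType_of_topFinitePresentation hA.1) T
  exact ⟨⟨topFinitePresentation_of_noPowTorsion (isBase ht) hft hnt, hnt⟩, hfin⟩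

/-- the universal property of the finite blowing up -/
theorem existsUnique_extension (ht : t ≠ 0) {A : Type u} [CommRing A] [Algebra R A]
    (hA : Admissible R (Ideal.span {t}) A) {n : ℕ} (f : Fin n → A ⊗[R] FractionRing R) (hf : ∀ i, IsIntegral A (f i))
    {c : R} (hc : c ≠ 0) (g : Fin n → A) (hg : ∀ i, algebraMap A (A ⊗[R] FractionRing R) (g i) = c • f i)
    {D : Type u} [CommRing D] [Algebra R D] (hD : Admissible R (Ideal.span {t}) D) (φ : A →ₐ[R] D)
    (hgen : (Ideal.span (insert (algebraMap R A c) (Set.range g))).map φ = Ideal.span {algebraMap R D c} ∨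
      ∃ i, (Ideal.span (insert (algebraMap R A c) (Set.range g))).map φ = Ideal.span {φ (g i)}) :
    (Ideal.span (insert (algebraMap R A c) (Set.range g))).map φ = Ideal.span {algebraMap R D c} ∧
      ∃! ψ : ↥(Algebra.adjoin A (Set.range f)) →ₐ[R] D,
        ψ.comp (IsScalarTower.toAlgHom R A ↥(Algebra.adjoin A (Set.range f))) = φ := by
  set K := FractionRing R
  set Q := (Ideal.span (insert (algebraMap R A c) (Set.range g))).map φ with hQ
  have hnzd : ∀ x : D, algebraMap R D c * x = 0 → x = 0 := fun x hx =>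
    eq_zero_of_smul hD.2 hc (by rwa [Algebra.smul_def])
  have hQc : Q = Ideal.span {algebraMap R D c} := by
    rcases hgen with h | ⟨i, h⟩
    · exact h
    have h1 : algebraMap R D c ∈ Q := by
      rw [← φ.commutes]
      exact Ideal.mem_map_of_mem _ (Ideal.subset_span (Set.mem_insert _ _))
    rw [h, Ideal.mem_span_singleton] at h1
    obtain ⟨y, hy⟩ := h1
    obtain ⟨p, hp, hpf⟩ := hf i
    rw [← Polynomial.aeval_def, Polynomial.aeval_eq_sum_range, Finset.sum_range_succ, hp.coeff_natDegree, one_smul]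
      at hpf
    set N := p.natDegree
    have h2 : ∑ k ∈ Finset.range N, p.coeff k * algebraMap R A c ^ (N - k) * g i ^ k + g i ^ N = 0 := by
      apply injective_generic (t := t) hA.2
      rw [map_zero, map_add, map_sum, ← smul_zero (c ^ N), ← hpf, smul_add, Finset.smul_sum]
      congr 1
      · refine Finset.sum_congr rfl fun k hk => ?_
        have e : c ^ N = c ^ (N - k) * c ^ k := by
          rw [← pow_add, Nat.sub_add_cancel (Finset.mem_range.1 hk).le]
        rw [map_mul, map_mul, map_pow, map_pow, hg, ← IsScalarTower.algebraMap_apply, e, gsmul_def, gsmul_def,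
          Algebra.smul_def, map_mul, map_pow, map_pow, mul_pow]
        ring
      · rw [map_pow, hg, smul_pow]
    have h3 := congrArg φ h2
    rw [map_zero, map_add, map_sum, map_pow] at h3
    have h4 : φ (g i) ^ N * (1 + ∑ k ∈ Finset.range N, φ (p.coeff k) * y ^ (N - k)) = 0 := by
      rw [← h3, mul_add, mul_one, Finset.mul_sum, add_comm]
      congr 1
      refine Finset.sum_congr rfl fun k hk => ?_
      have e : φ (g i) ^ N = φ (g i) ^ (N - k) * φ (g i) ^ k := by
        rw [← pow_add, Nat.sub_add_cancel (Finset.mem_range.1 hk).le]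
      rw [map_mul, map_mul, map_pow, map_pow, φ.commutes, hy, mul_pow, e]
      ring
    have hG : ∀ x : D, φ (g i) * x = 0 → x = 0 := fun x hx =>
      hnzd x (by rw [hy, mul_right_comm, hx, zero_mul])
    have h5 : ∀ (k : ℕ) (x : D), φ (g i) ^ k * x = 0 → x = 0 := by
      intro k
      induction k with
      | zero => intro x hx; simpa using hx
      | succ k ih => exact fun x hx => ih x (hG _ (by rwa [← mul_assoc, ← pow_succ']))
    have h6 := h5 _ _ h4
    have hyu : IsUnit y := by
      refine isUnit_of_dvd_one ?_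
      rw [add_eq_zero_iff_eq_neg] at h6
      rw [h6, dvd_neg]
      exact Finset.dvd_sum fun k hk =>
        (dvd_pow_self y (Nat.sub_ne_zero_of_lt (Finset.mem_range.1 hk))).mul_left _
    rw [h, hy]
    exact (Ideal.span_singleton_mul_right_unit hyu _).symm
  refine ⟨hQc, ?_⟩
  have hd : ∀ j, ∃ d, algebraMap R D c * d = φ (g j) := fun j => by
    have : φ (g j) ∈ Q := Ideal.mem_map_of_mem _ (Ideal.subset_span (Set.mem_insert_of_mem _ ⟨j, rfl⟩))
    rw [hQc, Ideal.mem_span_singleton] at this
    obtain ⟨d, hd⟩ := this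
    exact ⟨d, hd.symm⟩
  choose d hd using hd
  let ρ : A ⊗[R] K →ₐ[R] D ⊗[R] K := Algebra.TensorProduct.map φ (AlgHom.id R K)
  let ιD : D →ₐ[R] D ⊗[R] K := IsScalarTower.toAlgHom R D (D ⊗[R] K)
  have hιD : Function.Injective ιD := injective_generic (t := t) hD.2
  have hρA : ∀ a, ρ (algebraMap A (A ⊗[R] K) a) = ιD (φ a) := fun a => by
    show ρ (a ⊗ₜ (1 : K)) = φ a ⊗ₜ (1 : K)
    rw [Algebra.TensorProduct.map_tmul]
    rfl
  have hρf : ∀ j, ρ (f j) = ιD (d j) := fun j => eq_of_smul_eq hc (by
    rw [← map_smul, ← hg, hρA, ← map_smul, Algebra.smul_def, hd])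
  set T := Algebra.adjoin A (Set.range f)
  have hmem : ∀ x : A ⊗[R] K, x ∈ T → ρ x ∈ ιD.range := fun x hx => by
    induction hx using Algebra.adjoin_induction with
    | mem x hx => obtain ⟨j, rfl⟩ := hx; exact ⟨d j, (hρf j).symm⟩
    | algebraMap a => exact ⟨φ a, (hρA a).symm⟩
    | add x y _ _ hx hy => rw [map_add]; exact add_mem hx hy
    | mul x y _ _ hx hy => rw [map_mul]; exact mul_mem hx hy
  let ψ : T →ₐ[R] D := (AlgEquiv.ofInjective ιD hιD).symm.toAlgHom.comp
    ((ρ.comp (T.val.restrictScalars R)).codRestrict ιD.range fun x => hmem x.1 x.2)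
  have hψ : ∀ x : T, ιD (ψ x) = ρ x.1 := fun x => by
    have := (AlgEquiv.ofInjective ιD hιD).apply_symm_apply
      (((ρ.comp (T.val.restrictScalars R)).codRestrict ιD.range fun x => hmem x.1 x.2) x)
    exact congrArg Subtype.val this
  refine ⟨ψ, AlgHom.ext fun a => hιD ((hψ _).trans (hρA a)), fun ψ' hψ' => AlgHom.ext fun x => hιD ?_⟩
  rw [hψ]
  obtain ⟨x, hx⟩ := x
  induction hx using Algebra.adjoin_induction with
  | mem x hx =>
    obtain ⟨j, rfl⟩ := hx
    show ιD (ψ' ⟨f j, _⟩) = ρ (f j)
    rw [hρf]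
    congr 1
    refine sub_eq_zero.1 (hnzd _ ?_)
    rw [mul_sub, hd, ← Algebra.smul_def, ← map_smul, sub_eq_zero, ← hψ']
    refine congrArg ψ' (Subtype.ext ?_)
    exact (hg j).symm
  | algebraMap a =>
    show ιD (ψ' (algebraMap A T a)) = _
    rw [hρA]
    exact congrArg ιD (AlgHom.congr_fun hψ' a)
  | add x y hx hy h1 h2 =>
    show ιD (ψ' (⟨x, hx⟩ + ⟨y, hy⟩)) = ρ (x + y)
    rw [map_add, map_add, map_add, h1, h2]
  | mul x y hx hy h1 h2 =>
    show ιD (ψ' (⟨x, hx⟩ * ⟨y, hy⟩)) = ρ (x * y)
    rw [map_mul, map_mul, map_mul, h1, h2]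

/-- finite lifts of rig points along blowing ups -/
theorem exists_principalizing (ht : t ≠ 0) {B : Type u} [CommRing B] [IsDomain B] [Algebra R B]
    (hB : Admissible R (Ideal.span {t}) B) (hdim : ringKrullDim B = 1) {n : ℕ} (b : Fin n → B) (hb : ∃ i, b i ≠ 0) :
    ∃ B' : Subalgebra B (FractionRing B), Module.Finite B ↥B' ∧ IsLocalRing ↥B' ∧ ringKrullDim ↥B' = 1 ∧
      ∃ i, Ideal.span (Set.range (fun j => algebraMap B ↥B' (b j))) = Ideal.span {algebraMap B ↥B' (b i)} := by
  classical
  haveI := rig_finite ht hB hdim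
  haveI : Algebra.IsIntegral R B := Algebra.IsIntegral.of_finite R B
  have hinj := algebraMap_injective (t := t) (rig_tau_ne_zero hB)
  let L := FractionRing B
  haveI := valuationRing_integralClosure (t := t) ht hinj
  have key : ∀ x : L, IsIntegral B x ∨ IsIntegral B x⁻¹ := fun x => by
    rcases (ValuationRing.iff_isInteger_or_isInteger (integralClosure B L) L).1 inferInstance x with
      ⟨y, hy⟩ | ⟨y, hy⟩
    · exact Or.inl (hy ▸ y.2)
    · exact Or.inr (hy ▸ y.2)
  let S := Finset.univ.filter fun j => b j ≠ 0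
  have hS : S.Nonempty := hb.imp fun i hi => by simp [S, hi]
  have hmax : ∀ s : Finset (Fin n), s.Nonempty → (∀ j ∈ s, b j ≠ 0) →
      ∃ i ∈ s, ∀ j ∈ s, IsIntegral B (algebraMap B L (b j) / algebraMap B L (b i)) := by
    intro s hs
    induction hs using Finset.Nonempty.cons_induction with
    | singleton a =>
      intro h
      exact ⟨a, Finset.mem_singleton_self a, fun j hj => by
        rw [Finset.mem_singleton.1 hj, div_self fun h0 => h a (Finset.mem_singleton_self a)
          ((map_eq_zero_iff _ (IsFractionRing.injective B L)).1 h0)]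
        exact isIntegral_one⟩
    | cons a s ha hs ih =>
      intro h
      obtain ⟨i, hi, his⟩ := ih fun j hj => h j (Finset.mem_cons_of_mem hj)
      have hne : ∀ j ∈ Finset.cons a s ha, algebraMap B L (b j) ≠ 0 := fun j hj h0 =>
        h j hj ((map_eq_zero_iff _ (IsFractionRing.injective B L)).1 h0)
      rcases key (algebraMap B L (b a) / algebraMap B L (b i)) with h1 | h1
      · refine ⟨i, Finset.mem_cons_of_mem hi, fun j hj => ?_⟩
        rcases Finset.mem_cons.1 hj with rfl | hj'
        exacts [h1, his j hj']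
      · refine ⟨a, Finset.mem_cons_self a s, fun j hj => ?_⟩
        rcases Finset.mem_cons.1 hj with rfl | hj'
        · rw [div_self (hne _ hj)]; exact isIntegral_one
        · rw [inv_div] at h1
          have := (his j hj').mul h1
          rwa [div_mul_div_cancel₀ (hne i (Finset.mem_cons_of_mem hi))] at this
  obtain ⟨i, hi, hint⟩ := hmax S hS fun j hj => (Finset.mem_filter.1 hj).2
  let x : Fin n → L := fun j => algebraMap B L (b j) / algebraMap B L (b i)
  have hx : ∀ j, IsIntegral B (x j) := fun j => by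
    by_cases h : b j = 0
    · simp only [x, h, map_zero, zero_div]; exact isIntegral_zero
    · exact hint j (Finset.mem_filter.2 ⟨Finset.mem_univ j, h⟩)
  let T := Algebra.adjoin B (Set.range x)
  haveI : Module.Finite B T := Module.Finite.iff_fg.2
    (fg_adjoin_of_finite (Set.finite_range x) (by rintro _ ⟨j, rfl⟩; exact hx j))
  haveI : Module.Finite R T := Module.Finite.trans B T
  have hinjT : Function.Injective (algebraMap R T) := fun a c h =>
    hinj (IsFractionRing.injective B L (by
      have := congrArg Subtype.val h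
      rwa [Subalgebra.coe_algebraMap, Subalgebra.coe_algebraMap, IsScalarTower.algebraMap_apply R B L,
        IsScalarTower.algebraMap_apply R B L] at this))
  obtain ⟨hloc, hd⟩ := rigPoint_of_finite (t := t) ht hinjT
  refine ⟨T, inferInstance, hloc, hd, i, le_antisymm ?_ (Ideal.span_mono (Set.singleton_subset_iff.2 ⟨i, rfl⟩))⟩
  rw [Ideal.span_le]
  rintro _ ⟨j, rfl⟩
  rw [SetLike.mem_coe, Ideal.mem_span_singleton]
  refine ⟨⟨x j, Algebra.subset_adjoin ⟨j, rfl⟩⟩, Subtype.ext ?_⟩
  show algebraMap B L (b j) = algebraMap B L (b i) * x j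
  simp only [x]
  rw [mul_div_cancel₀ _ fun h0 => (Finset.mem_filter.1 hi).2 ((map_eq_zero_iff _ (IsFractionRing.injective B L)).1 h0)]

end Groth.TopFinType
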