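import Groth.Agent.TopFinType.Height1
import Mathlib.RingTheory.MvPolynomial.Groebner
import Mathlib.RingTheory.MvPolynomial.Homogeneous
import Mathlib.Data.Finsupp.MonomialOrder.DegLex
import Mathlib.Data.Finsupp.PWO
import Mathlib.Algebra.MvPolynomial.Rename
import Mathlib.RingTheory.LocalRing.ResidueField.Basic

/-!
Saturated homogeneous families in polynomial rings over restricted power series are finitely
generated: division by finitely many elements with unit leading coefficient.
-/

set_option autoImplicit false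

universe u

open MvPolynomial

namespace Groth.TopFinType

/-- a complete `R`-algebra whose reduction modulo `t` is a polynomial ring over `R/t` -/
structure Model (R : Type u) [CommRing R] (t : R) (n : ℕ) (B : Type u) [CommRing B] [Algebra R B] where
  red₀ : B →+* MvPolynomial (Fin n) (R ⧸ Ideal.span {t})
  surj : Function.Surjective red₀
  ker : ∀ b, red₀ b = 0 → algebraMap R B t ∣ b
  alg : ∀ r, red₀ (algebraMap R B r) = C (Ideal.Quotient.mk (Ideal.span {t}) r)
  complete : IsAdicComplete (Ideal.span {algebraMap R B t}) B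

namespace Model

variable {R : Type u} [CommRing R] {t : R} {n : ℕ} {B : Type u} [CommRing B] [Algebra R B]
  (S : Model R t n B) {m : ℕ}

/-- joint exponent -/
noncomputable def ee (a : Fin n →₀ ℕ) (e : Fin m →₀ ℕ) : Fin (n + m) →₀ ℕ :=
  a.mapDomain (Fin.castAdd m) + e.mapDomain (Fin.natAdd n)

theorem exists_ee (v : Fin (n + m) →₀ ℕ) : ∃ a e, ee a e = v := by
  classical
  refine ⟨Finsupp.equivFunOnFinite.symm fun i => v (Fin.castAdd m i),
    Finsupp.equivFunOnFinite.symm fun i => v (Fin.natAdd n i), ?_⟩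
  ext j
  refine Fin.addCases (fun i => ?_) (fun i => ?_) j
  · rw [ee, Finsupp.add_apply, Finsupp.mapDomain_apply (Fin.castAdd_injective n m),
      Finsupp.mapDomain_of_notMem_range]
    · simp
    · rintro ⟨k, hk⟩
      have := congrArg Fin.val hk
      simp at this; omega
  · rw [ee, Finsupp.add_apply, Finsupp.mapDomain_apply (Fin.natAdd_injective m n),
      Finsupp.mapDomain_of_notMem_range]
    · simp
    · rintro ⟨k, hk⟩
      have := congrArg Fin.val hk
      simp at this; omega

theorem ee_inj {a a' : Fin n →₀ ℕ} {e e' : Fin m →₀ ℕ} (h : ee a e = ee a' e') : a = a' ∧ e = e' := by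
  have hl : ∀ (a : Fin n →₀ ℕ) (e : Fin m →₀ ℕ) i, ee a e (Fin.castAdd m i) = a i := fun a e i => by
    rw [ee, Finsupp.add_apply, Finsupp.mapDomain_apply (Fin.castAdd_injective n m),
      Finsupp.mapDomain_of_notMem_range, add_zero]
    rintro ⟨k, hk⟩
    have := congrArg Fin.val hk
    simp at this; omega
  have hr : ∀ (a : Fin n →₀ ℕ) (e : Fin m →₀ ℕ) i, ee a e (Fin.natAdd n i) = e i := fun a e i => by
    rw [ee, Finsupp.add_apply, Finsupp.mapDomain_apply (Fin.natAdd_injective m n),
      Finsupp.mapDomain_of_notMem_range, zero_add]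
    rintro ⟨k, hk⟩
    have := congrArg Fin.val hk
    simp at this; omega
  exact ⟨Finsupp.ext fun i => by rw [← hl a e, h, hl], Finsupp.ext fun i => by rw [← hr a e, h, hr]⟩

/-- reduction of polynomials over `B` -/
noncomputable def red : MvPolynomial (Fin m) B →+* MvPolynomial (Fin (n + m)) (R ⧸ Ideal.span {t}) :=
  eval₂Hom ((rename (Fin.castAdd m)).toRingHom.comp S.red₀) fun i => X (Fin.natAdd n i)

theorem red_monomial (e : Fin m →₀ ℕ) (b : B) :
    S.red (monomial e b) = rename (Fin.castAdd m) (S.red₀ b) * monomial (e.mapDomain (Fin.natAdd n)) 1 := by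
  rw [red, eval₂Hom_monomial, ← rename_monomial (Fin.natAdd n) e (1 : R ⧸ Ideal.span {t})]
  congr 1
  rw [monomial_eq, map_one, one_mul, map_finsuppProd]
  simp [rename_X]

theorem coeff_red (F : MvPolynomial (Fin m) B) (a : Fin n →₀ ℕ) (e : Fin m →₀ ℕ) :
    coeff (ee a e) (S.red F) = coeff a (S.red₀ (coeff e F)) := by
  classical
  induction F using MvPolynomial.induction_on' with
  | add p q hp hq => simp only [map_add, coeff_add, hp, hq]
  | monomial e' b =>
    have key : ∀ (p : MvPolynomial (Fin n) (R ⧸ Ideal.span {t})),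
        coeff (ee a e) (rename (Fin.castAdd m) p * monomial (e'.mapDomain (Fin.natAdd n)) 1) =
          if e' = e then coeff a p else 0 := by
      intro p
      induction p using MvPolynomial.induction_on' with
      | add p q hp hq => rw [map_add, add_mul, coeff_add, hp, hq]; split <;> simp
      | monomial a' x =>
        rw [rename_monomial, monomial_mul, mul_one, coeff_monomial]
        show (if ee a' e' = ee a e then x else 0) = _
        by_cases h : e' = e
        · subst h
          rw [if_pos rfl, coeff_monomial]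
          by_cases h' : a' = a
          · simp [h']
          · rw [if_neg fun h'' => h' (ee_inj h'').1, if_neg h']
        · rw [if_neg h, if_neg fun h'' => h (ee_inj h'').2]
    rw [red_monomial, key, coeff_monomial]
    split <;> simp

theorem red_C (r : R) : S.red (C (algebraMap R B r) : MvPolynomial (Fin m) B) =
    C (Ideal.Quotient.mk (Ideal.span {t}) r) := by
  simp [red, S.alg]

theorem red_surjective : Function.Surjective (S.red (m := m)) := by
  intro p
  induction p using MvPolynomial.induction_on with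
  | C x =>
    obtain ⟨r, rfl⟩ := Ideal.Quotient.mk_surjective x
    exact ⟨_, S.red_C r⟩
  | add p q hp hq =>
    obtain ⟨P, rfl⟩ := hp
    obtain ⟨Q, rfl⟩ := hq
    exact ⟨P + Q, map_add _ _ _⟩
  | mul_X p i hp =>
    obtain ⟨P, rfl⟩ := hp
    refine Fin.addCases (fun i => ?_) (fun i => ?_) i
    · obtain ⟨b, hb⟩ := S.surj (X i)
      refine ⟨P * C b, ?_⟩
      simp [red, hb]
    · refine ⟨P * X i, ?_⟩
      simp [red]

theorem dvd_of_red_eq_zero {F : MvPolynomial (Fin m) B} (h : S.red F = 0) : C (algebraMap R B t) ∣ F := by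
  refine (C_dvd_iff_dvd_coeff _ _).2 fun e => S.ker _ ?_
  ext a
  rw [← coeff_red, h, coeff_zero, coeff_zero]

/-- reduction modulo a divisor of `t` -/
noncomputable def redMod {c : R} (hc : c ∣ t) :
    MvPolynomial (Fin m) B →+* MvPolynomial (Fin (n + m)) (R ⧸ Ideal.span {c}) :=
  (MvPolynomial.map (Ideal.Quotient.factor (Ideal.span_singleton_le_span_singleton.2 hc))).comp S.red

theorem redMod_surjective {c : R} (hc : c ∣ t) : Function.Surjective (S.redMod (m := m) hc) :=
  (MvPolynomial.map_surjective _ (Ideal.Quotient.factor_surjective _)).comp S.red_surjective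

theorem dvd_of_redMod_eq_zero {c : R} (hc : c ∣ t) {F : MvPolynomial (Fin m) B} (h : S.redMod hc F = 0) :
    C (algebraMap R B c) ∣ F := by
  have h1 : C (Ideal.Quotient.mk (Ideal.span {t}) c) ∣ S.red F := by
    refine (C_dvd_iff_dvd_coeff _ _).2 fun v => ?_
    obtain ⟨r, hr⟩ := Ideal.Quotient.mk_surjective (coeff v (S.red F))
    have h2 := congrArg (coeff v) h
    rw [redMod, RingHom.comp_apply, coeff_map, coeff_zero, ← hr, Ideal.Quotient.factor_mk,
      Ideal.Quotient.eq_zero_iff_mem, Ideal.mem_span_singleton] at h2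
    rw [← hr]
    exact map_dvd _ h2
  obtain ⟨h', hh⟩ := h1
  obtain ⟨H, rfl⟩ := S.red_surjective h'
  have h3 : C (algebraMap R B t) ∣ F - C (algebraMap R B c) * H :=
    S.dvd_of_red_eq_zero (by rw [map_sub, map_mul, red_C, hh, sub_self])
  have h4 : C (algebraMap R B c) ∣ C (σ := Fin m) (algebraMap R B t) := map_dvd _ (map_dvd _ hc)
  simpa using dvd_add (h4.trans h3) (Dvd.intro H rfl)

theorem redMod_C {c : R} (hc : c ∣ t) (r : R) :
    S.redMod hc (C (algebraMap R B r) : MvPolynomial (Fin m) B) = C (Ideal.Quotient.mk (Ideal.span {c}) r) := by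
  simp [redMod, red_C]

include S in
theorem exists_limit (E : Finset (Fin m →₀ ℕ)) (u : ℕ → MvPolynomial (Fin m) B)
    (hu : ∀ N, ∀ e ∉ E, coeff e (u N) = 0) (h : ∀ N, C (algebraMap R B t ^ N) ∣ u (N + 1) - u N) :
    ∃ U, (∀ e ∉ E, coeff e U = 0) ∧ ∀ N, C (algebraMap R B t ^ N) ∣ U - u N := by
  classical
  haveI := S.complete
  set τ := algebraMap R B t
  have hl : ∀ e, ∃ b : B, ∀ N, τ ^ N ∣ b - coeff e (u N) := by
    intro e
    have hc : ∀ {p q}, p ≤ q → τ ^ p ∣ coeff e (u q) - coeff e (u p) := by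
      intro p q hpq
      induction hpq with
      | refl => simp
      | @step q hq ih =>
        have := (pow_dvd_pow τ hq).trans ((C_dvd_iff_dvd_coeff _ _).1 (h q) e)
        rw [coeff_sub] at this
        simpa using dvd_add this ih
    obtain ⟨b, hb⟩ := IsPrecomplete.prec (I := Ideal.span {τ}) (M := B) inferInstance
      (f := fun N => coeff e (u N)) (fun {p q} hpq => by
        rw [SModEq.sub_mem, smul_eq_mul, Ideal.mul_top, Ideal.span_singleton_pow, Ideal.mem_span_singleton,
          ← dvd_neg, neg_sub]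
        exact hc hpq)
    refine ⟨b, fun N => ?_⟩
    have := hb N
    rwa [SModEq.sub_mem, smul_eq_mul, Ideal.mul_top, Ideal.span_singleton_pow, Ideal.mem_span_singleton,
      ← dvd_neg, neg_sub] at this
  choose b hb using hl
  refine ⟨∑ e ∈ E, monomial e (b e), fun e he => ?_, fun N => (C_dvd_iff_dvd_coeff _ _).2 fun e => ?_⟩
  · rw [coeff_sum]
    exact Finset.sum_eq_zero fun e' he' => by rw [coeff_monomial, if_neg fun h : e' = e => he (h ▸ he')]
  · rw [coeff_sub, coeff_sum]
    by_cases he : e ∈ E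
    · rw [Finset.sum_eq_single e (fun e' _ hne => by rw [coeff_monomial, if_neg hne]) (fun h' => absurd he h'),
        coeff_monomial, if_pos rfl]
      exact hb e N
    · rw [hu N e he, Finset.sum_eq_zero fun e' he' => by
        rw [coeff_monomial, if_neg fun h : e' = e => he (h ▸ he')]]
      simp

include S in
theorem eq_zero_of_forall_dvd {F : MvPolynomial (Fin m) B} (h : ∀ N, C (algebraMap R B t ^ N) ∣ F) : F = 0 := by
  haveI := S.complete
  ext e
  rw [coeff_zero]
  refine IsHausdorff.haus' (I := Ideal.span {algebraMap R B t}) _ fun N => ?_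
  rw [SModEq.zero, smul_eq_mul, Ideal.mul_top, Ideal.span_singleton_pow, Ideal.mem_span_singleton]
  exact (C_dvd_iff_dvd_coeff _ _).1 (h N) e

end Model

theorem homogeneousComponent_mul_of_isHomogeneous {S : Type*} [CommSemiring S] {σ : Type*} {g : MvPolynomial σ S}
    {j : ℕ} (hg : g.IsHomogeneous j) (Q : MvPolynomial σ S) (d : ℕ) :
    homogeneousComponent d (Q * g) = if j ≤ d then homogeneousComponent (d - j) Q * g else 0 := by
  induction Q using MvPolynomial.induction_on' with
  | add p q hp hq =>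
    rw [add_mul, map_add, hp, hq]
    split <;> simp [add_mul]
  | monomial v x =>
    have hv := isHomogeneous_monomial (d := v) x rfl
    rw [homogeneousComponent_of_mem ((mem_homogeneousSubmodule _ _).2 (hv.mul hg))]
    by_cases hj : j ≤ d
    · rw [if_pos hj, homogeneousComponent_of_mem ((mem_homogeneousSubmodule _ _).2 hv)]
      by_cases h : v.degree = d - j
      · rw [if_pos h.symm, if_pos (by omega)]
      · rw [if_neg (Ne.symm h), if_neg (by omega), zero_mul]
    · rw [if_neg hj, if_neg (by omega)]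

section Main

variable {R : Type u} [CommRing R] [IsDomain R] [ValuationRing R] [Ring.KrullDimLE 1 R]
  {t : R} [IsAdicComplete (Ideal.span {t}) R] {n : ℕ} {B : Type u} [CommRing B] [Algebra R B]
  (S : Model R t n B) {m : ℕ} {H : ℕ → Submodule B (MvPolynomial (Fin m) B)}

omit [IsDomain R] [ValuationRing R] [Ring.KrullDimLE 1 R] [IsAdicComplete (Ideal.span {t}) R] in
theorem C_mul_mem {d : ℕ} (b : B) {F : MvPolynomial (Fin m) B} (hF : F ∈ H d) : C b * F ∈ H d := by
  rw [show C b * F = b • F from (MvPolynomial.smul_eq_C_mul F _).symm]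
  exact (H d).smul_mem _ hF

include t in
theorem mem_of_C_mul_mem
    (hsat : ∀ d, ∀ F : MvPolynomial (Fin m) B, F.IsHomogeneous d → C (algebraMap R B t) * F ∈ H d → F ∈ H d)
    {d : ℕ} {r : R} (hr : r ≠ 0) {F : MvPolynomial (Fin m) B} (hF : F.IsHomogeneous d)
    (hrF : C (algebraMap R B r) * F ∈ H d) : F ∈ H d := by
  obtain ⟨k, s, hk⟩ := exists_pow_dvd (t := t) hr
  have h : C (algebraMap R B (t ^ k)) * F ∈ H d := by
    rw [hk, mul_comm r s, map_mul, map_mul, mul_assoc]
    exact C_mul_mem _ hrF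
  clear hk hrF
  induction k with
  | zero => rwa [pow_zero, map_one, map_one, one_mul] at h
  | succ k ih =>
    refine ih (hsat d _ ?_ ?_)
    · simpa using (isHomogeneous_C (Fin m) (algebraMap R B (t ^ k))).mul hF
    · rw [← mul_assoc, ← map_mul, ← map_mul, ← pow_succ']
      exact h

theorem eq_C_mul_component {A : Type*} [CommRing A] {σ : Type*} {d : ℕ} {b : A} {G F : MvPolynomial σ A}
    (hG : G.IsHomogeneous d) (h : G = C b * F) : G = C b * homogeneousComponent d F := by
  conv_lhs => rw [← (homogeneousComponent_of_mem ((mem_homogeneousSubmodule _ _).2 hG)).trans (if_pos rfl)]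
  rw [h, homogeneousComponent_C_mul]

/-- reduction to the residue field -/
noncomputable def Model.redK (htm : t ∈ IsLocalRing.maximalIdeal R) :
    MvPolynomial (Fin m) B →+* MvPolynomial (Fin (n + m)) (R ⧸ IsLocalRing.maximalIdeal R) :=
  (MvPolynomial.map (Ideal.Quotient.factor ((Ideal.span_singleton_le_iff_mem _).2 htm))).comp S.red

/-- generators with unit leading coefficients modulo `c` -/
theorem Model.exists_leads (hhom : ∀ d, ∀ F ∈ H d, F.IsHomogeneous d)
    (hsat : ∀ d, ∀ F : MvPolynomial (Fin m) B, F.IsHomogeneous d → C (algebraMap R B t) * F ∈ H d → F ∈ H d)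
    (ht : t ≠ 0) (mo : MonomialOrder (Fin (n + m))) :
    ∃ (ι : Type) (_ : Fintype ι) (dg : ι → ℕ) (g : ι → MvPolynomial (Fin m) B) (c : R) (hct : c ∣ t),
      ¬IsUnit c ∧ (∀ i, g i ∈ H (dg i)) ∧ (∀ i, IsUnit (mo.leadingCoeff (S.redMod hct (g i)))) ∧
      ∀ d, ∀ r' ∈ H d, S.redMod hct r' ≠ 0 →
        ∃ α, coeff α (S.redMod hct r') ≠ 0 ∧ ∃ i, mo.degree (S.redMod hct (g i)) ≤ α := by
  classical
  have htm : t ∈ IsLocalRing.maximalIdeal R := mem_maximal_of_complete
  choose lft hlft using (Ideal.Quotient.mk_surjective (I := Ideal.span {t}))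
  have hk : ∀ F w, coeff w (S.redK (m := m) htm F) = Ideal.Quotient.mk _ (lft (coeff w (S.red F))) := by
    intro F w
    rw [Model.redK, RingHom.comp_apply, coeff_map, ← hlft (coeff w (S.red F)), Ideal.Quotient.factor_mk, hlft]
  have hm : ∀ {c : R} (hct : c ∣ t) F w,
      coeff w (S.redMod (m := m) hct F) = Ideal.Quotient.mk _ (lft (coeff w (S.red F))) := by
    intro c hct F w
    rw [Model.redMod, RingHom.comp_apply, coeff_map, ← hlft (coeff w (S.red F)), Ideal.Quotient.factor_mk, hlft]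
  have hnu : ∀ {F w}, coeff w (S.redK (m := m) htm F) = 0 → ¬IsUnit (lft (coeff w (S.red F))) := fun h => by
    rw [hk, Ideal.Quotient.eq_zero_iff_mem, IsLocalRing.mem_maximalIdeal] at h
    exact h
  have hu : ∀ {F w}, coeff w (S.redK (m := m) htm F) ≠ 0 → IsUnit (lft (coeff w (S.red F))) := fun h => by
    by_contra h'
    rw [hk, ne_eq, Ideal.Quotient.eq_zero_iff_mem, IsLocalRing.mem_maximalIdeal] at h
    exact h h'
  let L : Set (Fin (n + m) →₀ ℕ) := {v | ∃ d, ∃ F ∈ H d, S.redK htm F ≠ 0 ∧ mo.degree (S.redK htm F) = v}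
  have hfin : {v | Minimal (· ∈ L) v}.Finite :=
    (setOfPred_minimal_antichain (· ∈ L)).finite_of_wellQuasiOrdered wellQuasiOrdered_le
  let ι : Type := {v : Fin (n + m) →₀ ℕ // Minimal (· ∈ L) v}
  haveI : Finite ι := hfin.to_subtype
  haveI := Fintype.ofFinite ι
  choose dg g hg hgne hgdeg using fun v : ι => v.2.1
  obtain ⟨c, hc, hct, hcbad⟩ := exists_bound (t := t) (Finset.univ.biUnion fun i : ι =>
      ((S.red (g i)).support.filter fun w => coeff w (S.redK htm (g i)) = 0).image
        fun w => lft (coeff w (S.red (g i)))) (fun x hx => by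
    obtain ⟨i, -, hx⟩ := Finset.mem_biUnion.1 hx
    obtain ⟨w, hw, rfl⟩ := Finset.mem_image.1 hx
    exact hnu (Finset.mem_filter.1 hw).2)
  haveI : Nontrivial (R ⧸ Ideal.span {c}) :=
    Ideal.Quotient.nontrivial_iff.2 fun h => hc (Ideal.span_singleton_eq_top.1 h)
  have hlead : ∀ i : ι, mo.degree (S.redMod hct (g i)) = i.1 ∧
      IsUnit (mo.leadingCoeff (S.redMod hct (g i))) := by
    intro i
    have hu' : IsUnit (coeff i.1 (S.redMod hct (g i))) := by
      have h1 := mo.coeff_degree_ne_zero_iff.2 (hgne i)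
      rw [hgdeg] at h1
      rw [hm]
      exact (hu h1).map _
    have hdeg : mo.degree (S.redMod hct (g i)) = i.1 := by
      apply mo.toSyn.injective
      refine le_antisymm (mo.degree_le_iff.2 fun w hw => ?_) (mo.le_degree (mem_support_iff.2 hu'.ne_zero))
      rw [← hgdeg i]
      refine mo.le_degree (mem_support_iff.2 fun h0 => mem_support_iff.1 hw ?_)
      rw [hm]
      by_cases h : coeff w (S.red (g i)) = 0
      · have : S.redMod hct (g i) = MvPolynomial.map _ (S.red (g i)) := rfl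
        rw [← hm hct, this, coeff_map, h, map_zero]
      exact Ideal.Quotient.eq_zero_iff_mem.2 (Ideal.mem_span_singleton.2 (hcbad _ (Finset.mem_biUnion.2
        ⟨i, Finset.mem_univ i, Finset.mem_image.2 ⟨w, Finset.mem_filter.2 ⟨mem_support_iff.2 h, h0⟩, rfl⟩⟩)))
    refine ⟨hdeg, ?_⟩
    rw [MonomialOrder.leadingCoeff, hdeg]
    exact hu'
  refine ⟨ι, inferInstance, dg, g, c, hct, hc, hg, fun i => (hlead i).2, fun d r' hr'H hne => ?_⟩
  obtain ⟨v₀, hv₀⟩ := MvPolynomial.ne_zero_iff.1 hne
  obtain ⟨u, hut, hu', hatt⟩ := exists_gcd (t := t)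
    ((S.red r').support.image fun w => lft (coeff w (S.red r')))
  have hudvd : ∀ w, coeff w (S.red r') ≠ 0 → u ∣ lft (coeff w (S.red r')) := fun w hw =>
    hu' _ (Finset.mem_image.2 ⟨w, mem_support_iff.2 hw, rfl⟩)
  have hcu : ¬ c ∣ u := fun h => hv₀ (by
    by_cases hw : coeff v₀ (S.red r') = 0
    · rw [Model.redMod, RingHom.comp_apply, coeff_map, hw, map_zero]
    rw [hm]
    exact Ideal.Quotient.eq_zero_iff_mem.2 (Ideal.mem_span_singleton.2 (h.trans (hudvd _ hw))))
  rcases hatt with htu | hatt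
  · exact absurd (hct.trans htu) hcu
  obtain ⟨v₁, -, hv₁u⟩ := Finset.mem_image.1 hatt
  have hu0 : u ≠ 0 := fun e => ht (by simpa [e] using hut)
  obtain ⟨R₀, hR₀⟩ := S.dvd_of_redMod_eq_zero hut (F := r') (by
    ext w
    rw [Model.redMod, RingHom.comp_apply, coeff_map, coeff_zero]
    by_cases hw : coeff w (S.red r') = 0
    · rw [hw, map_zero]
    rw [← hlft (coeff w (S.red r'))]
    exact Ideal.Quotient.eq_zero_iff_mem.2 (Ideal.mem_span_singleton.2 (hudvd _ hw)))
  have e₀ := eq_C_mul_component (hhom d r' hr'H) hR₀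
  have hr₀H : homogeneousComponent d R₀ ∈ H d :=
    mem_of_C_mul_mem hsat hu0 (homogeneousComponent_isHomogeneous _ _) (e₀ ▸ hr'H)
  generalize homogeneousComponent d R₀ = r₀ at e₀ hr₀H
  have hcoef : ∀ w, coeff w (S.red r') = Ideal.Quotient.mk _ u * coeff w (S.red r₀) := fun w => by
    rw [e₀, map_mul, S.red_C, coeff_C_mul]
  have hk₀ : S.redK htm r₀ ≠ 0 := by
    intro hz
    have h0 : coeff v₁ (S.redK htm r₀) = 0 := by rw [hz, coeff_zero]
    have h1 := hcoef v₁
    rw [← hlft (coeff v₁ (S.red r')), hv₁u, ← hlft (coeff v₁ (S.red r₀)), ← map_mul,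
      Ideal.Quotient.eq, Ideal.mem_span_singleton] at h1
    have h2 : IsUnit (1 - lft (coeff v₁ (S.red r₀))) :=
      (IsLocalRing.isUnit_or_isUnit_one_sub_self _).resolve_left (hnu h0)
    have h3 : t ∣ u * (1 - lft (coeff v₁ (S.red r₀))) := by rwa [mul_sub, mul_one]
    exact hcu (hct.trans (h2.dvd_mul_right.1 h3))
  have hL : mo.degree (S.redK htm r₀) ∈ L := ⟨d, r₀, hr₀H, hk₀, rfl⟩
  obtain ⟨v, hv, hvmin⟩ := exists_minimal_le_of_wellFoundedLT (· ∈ L) _ hL
  refine ⟨mo.degree (S.redK htm r₀), fun hz => ?_, ⟨v, hvmin⟩, by rw [(hlead _).1]; exact hv⟩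
  have hx := hu (mo.coeff_degree_ne_zero_iff.2 hk₀)
  rw [Model.redMod, RingHom.comp_apply, coeff_map, hcoef, map_mul,
    ← hlft (coeff (mo.degree (S.redK htm r₀)) (S.red r₀)), Ideal.Quotient.factor_mk, Ideal.Quotient.factor_mk] at hz
  exact hcu (Ideal.mem_span_singleton.1 (Ideal.Quotient.eq_zero_iff_mem.1
    ((hx.map (Ideal.Quotient.mk (Ideal.span {c}))).mul_left_eq_zero.1 hz)))

/-- one division step -/
theorem Model.step {ι : Type} [Fintype ι] (dg : ι → ℕ) (g : ι → MvPolynomial (Fin m) B) {c : R} (hct : c ∣ t)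
    (ht : t ≠ 0) (mo : MonomialOrder (Fin (n + m)))
    (hhom : ∀ d, ∀ F ∈ H d, F.IsHomogeneous d)
    (hmul : ∀ d e, ∀ F ∈ H d, ∀ G : MvPolynomial (Fin m) B, G.IsHomogeneous e → G * F ∈ H (e + d))
    (hsat : ∀ d, ∀ F : MvPolynomial (Fin m) B, F.IsHomogeneous d → C (algebraMap R B t) * F ∈ H d → F ∈ H d)
    (hg : ∀ i, g i ∈ H (dg i)) (hlu : ∀ i, IsUnit (mo.leadingCoeff (S.redMod hct (g i))))
    (hdom : ∀ d, ∀ r' ∈ H d, S.redMod hct r' ≠ 0 →
      ∃ α, coeff α (S.redMod hct r') ≠ 0 ∧ ∃ i, mo.degree (S.redMod hct (g i)) ≤ α)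
    (d : ℕ) (F : MvPolynomial (Fin m) B) (hF : F ∈ H d) :
    ∃ Q : ι → MvPolynomial (Fin m) B,
      (∀ i, ∀ e : Fin m →₀ ℕ, e.degree ≠ d - dg i → coeff e (Q i) = 0) ∧
      ∃ F' ∈ H d, F = ∑ i, Q i * g i + C (algebraMap R B c) * F' := by
  classical
  obtain ⟨q, r, hqr, -, hr⟩ := mo.div hlu (S.redMod hct F)
  choose Q₀ hQ₀ using fun i => S.redMod_surjective hct (q i)
  refine ⟨fun i => if dg i ≤ d then homogeneousComponent (d - dg i) (Q₀ i) else 0, fun i e he => ?_, ?_⟩
  · dsimp only; split_ifs <;> simp [coeff_homogeneousComponent, he]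
  set r' := F - ∑ i, (if dg i ≤ d then homogeneousComponent (d - dg i) (Q₀ i) else 0) * g i with hr'
  have hr'x : r' = homogeneousComponent d (F - ∑ i, Q₀ i * g i) := by
    rw [map_sub, map_sum, (homogeneousComponent_of_mem ((mem_homogeneousSubmodule _ _).2 (hhom d F hF))).trans (if_pos rfl)]
    refine congrArg (F - ·) (Finset.sum_congr rfl fun i _ => ?_)
    rw [homogeneousComponent_mul_of_isHomogeneous (hhom _ _ (hg i))]
    split_ifs <;> simp
  have hxr : S.redMod hct (F - ∑ i, Q₀ i * g i) = r := by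
    simp only [map_sub, map_sum, map_mul, hQ₀]
    rw [hqr, Finsupp.linearCombination_apply, Finsupp.sum_fintype]
    · simp [smul_eq_mul]
    · simp
  have hr'H : r' ∈ H d := by
    refine (H d).sub_mem hF ((H d).sum_mem fun i _ => ?_)
    split_ifs with h
    · simpa [Nat.sub_add_cancel h] using hmul _ (d - dg i) _ (hg i) _ (homogeneousComponent_isHomogeneous _ _)
    · simp
  have h0 : S.redMod hct r' = 0 := by
    by_contra h0
    obtain ⟨α, hα, i, hi⟩ := hdom d r' hr'H h0
    refine hr α ?_ i hi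
    obtain ⟨a, e, rfl⟩ := Model.exists_ee α
    rw [Model.redMod, RingHom.comp_apply, coeff_map, S.coeff_red, hr'x, coeff_homogeneousComponent] at hα
    rw [mem_support_iff, ← hxr, Model.redMod, RingHom.comp_apply, coeff_map, S.coeff_red]
    split_ifs at hα with h
    · exact hα
    · simp at hα
  obtain ⟨F₀, hF₀⟩ := S.dvd_of_redMod_eq_zero hct h0
  have e := eq_C_mul_component (hhom d r' hr'H) hF₀
  refine ⟨_, mem_of_C_mul_mem hsat (fun h => ht (by simpa [h] using hct))
    (homogeneousComponent_isHomogeneous _ _) (e ▸ hr'H), ?_⟩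
  rw [← e, hr', add_sub_cancel]

include S in
theorem Model.mem_span_of_step {ι : Type} [Fintype ι] (dg : ι → ℕ) (g : ι → MvPolynomial (Fin m) B) {c : R}
    (hc : ¬IsUnit c) (ht : t ≠ 0)
    (hstep : ∀ (d : ℕ) (F : MvPolynomial (Fin m) B), F ∈ H d → ∃ Q : ι → MvPolynomial (Fin m) B,
      (∀ i, ∀ e : Fin m →₀ ℕ, e.degree ≠ d - dg i → coeff e (Q i) = 0) ∧
      ∃ F' ∈ H d, F = ∑ i, Q i * g i + C (algebraMap R B c) * F')
    (d : ℕ) (F : MvPolynomial (Fin m) B) (hF : F ∈ H d) : F ∈ Ideal.span (Set.range g) := by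
  classical
  obtain ⟨k, s, hks⟩ := exists_dvd_pow_nonunit ht hc
  have stepN : ∀ N, ∀ F ∈ H d, ∃ Q : ι → MvPolynomial (Fin m) B,
      (∀ i, ∀ e : Fin m →₀ ℕ, e.degree ≠ d - dg i → coeff e (Q i) = 0) ∧
      ∃ F' ∈ H d, F = ∑ i, Q i * g i + C (algebraMap R B c) ^ N * F' := by
    intro N
    induction N with
    | zero => exact fun F hF => ⟨0, by simp, F, hF, by simp⟩
    | succ N ih =>
      intro F hF
      obtain ⟨Q, hQ, F₁, hF₁, e₁⟩ := ih F hF
      obtain ⟨Q', hQ', F₂, hF₂, e₂⟩ := hstep d F₁ hF₁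
      refine ⟨fun i => Q i + C (algebraMap R B c) ^ N * Q' i, fun i e he => ?_, F₂, hF₂, ?_⟩
      · rw [← map_pow, coeff_add, coeff_C_mul, hQ i e he, hQ' i e he, mul_zero, add_zero]
      · rw [e₁, e₂]
        simp only [add_mul, Finset.sum_add_distrib, Finset.mul_sum, mul_add, pow_succ, mul_assoc]
        abel
  have stepT : ∀ x : H d, ∃ Q : ι → MvPolynomial (Fin m) B,
      (∀ i, ∀ e : Fin m →₀ ℕ, e.degree ≠ d - dg i → coeff e (Q i) = 0) ∧
      ∃ y : H d, (x : MvPolynomial (Fin m) B) =
        ∑ i, Q i * g i + C (algebraMap R B t) * (y : MvPolynomial (Fin m) B) := fun x => by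
    obtain ⟨Q, hQ, F', hF', e⟩ := stepN k x x.2
    refine ⟨Q, hQ, ⟨C (algebraMap R B s) * F', C_mul_mem _ hF'⟩, ?_⟩
    rw [e, ← map_pow, ← map_pow, hks, map_mul, map_mul, mul_assoc]
  choose Qf hQf nx hnx using stepT
  let xs : ℕ → H d := fun N => nx^[N] ⟨F, hF⟩
  let u : ι → ℕ → MvPolynomial (Fin m) B := fun i N =>
    ∑ j ∈ Finset.range N, C (algebraMap R B t ^ j) * Qf (xs j) i
  have hexp : ∀ N, F = ∑ i, u i N * g i + C (algebraMap R B t ^ N) * (xs N : MvPolynomial (Fin m) B) := by
    intro N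
    induction N with
    | zero => simp [u, xs]
    | succ N ih =>
      have hx : xs (N + 1) = nx (xs N) := Function.iterate_succ_apply' _ _ _
      conv_lhs => rw [ih, hnx (xs N), ← hx]
      simp only [u, Finset.sum_range_succ, add_mul, Finset.sum_add_distrib, mul_add, Finset.mul_sum, pow_succ, map_mul]
      simp only [mul_assoc]
      abel
  choose U hU0 hU using fun i => S.exists_limit (Finset.finsuppAntidiag Finset.univ (d - dg i)) (u i)
    (fun N e he => by
      simp only [u, coeff_sum, coeff_C_mul]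
      refine Finset.sum_eq_zero fun j _ => ?_
      rw [hQf (xs j) i e (fun h => he (Finset.mem_finsuppAntidiag.2
        ⟨by rw [← h, Finsupp.degree_eq_sum], Finset.subset_univ _⟩)), mul_zero])
    (fun N => by simp only [u, Finset.sum_range_succ, add_sub_cancel_left]; exact Dvd.intro _ rfl)
  have : F = ∑ i, U i * g i := sub_eq_zero.1 (S.eq_zero_of_forall_dvd fun N => by
    have e : F - ∑ i, U i * g i =
        C (algebraMap R B t ^ N) * (xs N : MvPolynomial (Fin m) B) + ∑ i, (u i N - U i) * g i := by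
      conv_lhs => rw [hexp N]
      simp only [sub_mul, Finset.sum_sub_distrib]
      abel
    rw [e]
    exact dvd_add (Dvd.intro _ rfl) (Finset.dvd_sum fun i _ => by
      rw [← neg_sub, neg_mul, dvd_neg]; exact (hU i N).mul_right _))
  rw [this]
  exact Ideal.sum_mem _ fun i _ => Ideal.mul_mem_left _ _ (Ideal.subset_span ⟨i, rfl⟩)

include S in
/-- saturated homogeneous families are finitely generated -/
theorem Model.exists_finset_gen (ht : t ≠ 0)
    (hhom : ∀ d, ∀ F ∈ H d, F.IsHomogeneous d)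
    (hmul : ∀ d e, ∀ F ∈ H d, ∀ G : MvPolynomial (Fin m) B, G.IsHomogeneous e → G * F ∈ H (e + d))
    (hsat : ∀ d, ∀ F : MvPolynomial (Fin m) B, F.IsHomogeneous d → C (algebraMap R B t) * F ∈ H d → F ∈ H d) :
    ∃ G : Finset (MvPolynomial (Fin m) B), (∀ g ∈ G, ∃ d, g ∈ H d) ∧
      ∀ d, ∀ F ∈ H d, F ∈ Ideal.span (G : Set (MvPolynomial (Fin m) B)) := by
  classical
  obtain ⟨ι, hι, dg, g, c, hct, hc, hg, hlu, hdom⟩ :=
    S.exists_leads hhom hsat ht (MonomialOrder.degLex : MonomialOrder (Fin (n + m)))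
  refine ⟨Finset.univ.image g, fun x hx => ?_, fun d F hF => ?_⟩
  · obtain ⟨i, -, rfl⟩ := Finset.mem_image.1 hx
    exact ⟨_, hg i⟩
  rw [Finset.coe_image, Finset.coe_univ, Set.image_univ]
  exact S.mem_span_of_step dg g hc ht
    (S.step dg g hct ht _ hhom hmul hsat hg hlu hdom) d F hF

end Main

end Groth.TopFinType
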