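import Groth.Agent.AdicLinTop.CompletionTorsion
import Mathlib.RingTheory.AdicCompletion.RingHom
import Mathlib.RingTheory.Valuation.ValuationRing

/-! Facts on complete valuation rings of height one. -/

set_option autoImplicit false

universe u

namespace Groth.TopFinType

variable {R : Type u} [CommRing R] [IsDomain R] [ValuationRing R] [Ring.KrullDimLE 1 R]
  {t : R} [IsAdicComplete (Ideal.span {t}) R]

theorem mem_maximal_of_complete {R : Type u} [CommRing R] [IsLocalRing R] {t : R}
    [IsAdicComplete (Ideal.span {t}) R] : t ∈ IsLocalRing.maximalIdeal R := by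
  have h1 := IsAdicComplete.le_jacobson_bot (Ideal.span {t} : Ideal R) (Ideal.mem_span_singleton_self t)
  rwa [IsLocalRing.jacobson_eq_maximalIdeal ⊥ bot_ne_top] at h1

include t in
theorem exists_pow_dvd {r : R} (hr : r ≠ 0) : ∃ m, r ∣ t ^ m :=
  Groth.AdicLinTop.CompletionTorsion.exists_dvd_pow (mem_maximal_of_complete (t := t)) hr

omit [IsAdicComplete (Ideal.span {t}) R] in
theorem exists_dvd_pow_nonunit (ht : t ≠ 0) {c : R} (hc : ¬IsUnit c) : ∃ k, t ∣ c ^ k :=
  Groth.AdicLinTop.CompletionTorsion.exists_dvd_pow ((IsLocalRing.mem_maximalIdeal c).2 hc) ht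

omit [Ring.KrullDimLE 1 R] in
include t in
/-- finitely many non-units have a common non-unit divisor that also divides `t` -/
theorem exists_bound (s : Finset R) (hs : ∀ x ∈ s, ¬IsUnit x) :
    ∃ c, ¬IsUnit c ∧ c ∣ t ∧ ∀ x ∈ s, c ∣ x := by
  classical
  induction s using Finset.induction_on with
  | empty =>
    exact ⟨t, (IsLocalRing.mem_maximalIdeal t).1 (mem_maximal_of_complete (t := t)), dvd_rfl, by simp⟩
  | insert x s hx ih =>
    obtain ⟨c, hc, hct, hcs⟩ := ih fun y hy => hs y (Finset.mem_insert_of_mem hy)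
    rcases ValuationRing.dvd_total c x with h | h
    · refine ⟨c, hc, hct, fun y hy => ?_⟩
      rcases Finset.mem_insert.1 hy with rfl | hy
      exacts [h, hcs y hy]
    · refine ⟨x, hs x (Finset.mem_insert_self x s), h.trans hct, fun y hy => ?_⟩
      rcases Finset.mem_insert.1 hy with rfl | hy
      exacts [dvd_rfl, h.trans (hcs y hy)]

omit [Ring.KrullDimLE 1 R] [IsAdicComplete (Ideal.span {t}) R] in
/-- the greatest common divisor of `t` and finitely many elements is attained -/
theorem exists_gcd (s : Finset R) :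
    ∃ u, u ∣ t ∧ (∀ x ∈ s, u ∣ x) ∧ (t ∣ u ∨ u ∈ s) := by
  classical
  induction s using Finset.induction_on with
  | empty => exact ⟨t, dvd_rfl, by simp, Or.inl dvd_rfl⟩
  | insert x s hx ih =>
    obtain ⟨u, hut, hus, hu⟩ := ih
    rcases ValuationRing.dvd_total u x with h | h
    · refine ⟨u, hut, fun y hy => ?_, hu.imp_right (Finset.mem_insert_of_mem ·)⟩
      rcases Finset.mem_insert.1 hy with rfl | hy
      exacts [h, hus y hy]
    · refine ⟨x, h.trans hut, fun y hy => ?_, Or.inr (Finset.mem_insert_self x s)⟩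
      rcases Finset.mem_insert.1 hy with rfl | hy
      exacts [dvd_rfl, h.trans (hus y hy)]

end Groth.TopFinType
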